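import Groth.Agent.CanonModLib.Canon
import Groth.Agent.RichLib.FreeResolution
import Mathlib.CategoryTheory.Abelian.Ext

/-!
# Local duality with a canonical module
-/

set_option autoImplicit false
set_option linter.style.haveILetI false
set_option linter.unusedSectionVars false
set_option maxHeartbeats 400000

universe u

open CategoryTheory IsLocalRing LocCohLib Opposite
open scoped TensorProduct

noncomputable section

namespace CanonModLib

section ExtModel

variable {R : Type u} [CommRing R] {M : ModuleCat.{u} R} (P : ProjectiveResolution M) (K : Type u) [AddCommGroup K]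
  [Module R K]

/-- The augmentation. -/
def aug : P.complex.X 0 →ₗ[R] M := (P.π.f 0).hom

/-- The differential. -/
def dLin (j : ℕ) : P.complex.X (j + 1) →ₗ[R] P.complex.X j := (P.complex.d (j + 1) j).hom

theorem aug_surjective : Function.Surjective (aug P) := (ModuleCat.epi_iff_surjective (P.π.f 0)).1 inferInstance

theorem aug_exact : Function.Exact (dLin P 0) (aug P) :=
  (CategoryTheory.ShortComplex.ShortExact.moduleCat_exact_iff_function_exact _).1 P.exact₀

theorem dLin_exact (j : ℕ) : Function.Exact (dLin P (j + 1)) (dLin P j) :=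
  (CategoryTheory.ShortComplex.ShortExact.moduleCat_exact_iff_function_exact _).1 (P.exact_succ j)

/-- The image of the differential. -/
abbrev syz (j : ℕ) : Submodule R (P.complex.X j) := LinearMap.range (dLin P j)

/-- Surjection onto the image. -/
abbrev syzProj (j : ℕ) : P.complex.X (j + 1) →ₗ[R] syz P j := (dLin P j).rangeRestrict

/-- Restriction to the image. -/
abbrev res (j : ℕ) : (P.complex.X j →ₗ[R] K) →ₗ[R] (syz P j →ₗ[R] K) := LinearMap.lcomp R K (syz P j).subtype

include P in
theorem nonempty_ext_zero :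
    Nonempty (((Ext R (ModuleCat.{u} R) 0).obj (op M)).obj (ModuleCat.of R K) ≃ₗ[R] (M →ₗ[R] K)) := by
  let Cx := P.complex.linearYonedaObj R (ModuleCat.of R K)
  let S := Cx.sc' 0 0 1
  let e : ((Ext R (ModuleCat.{u} R) 0).obj (op M)).obj (ModuleCat.of R K) ≅ ModuleCat.of R (LinearMap.ker S.g.hom ⧸ LinearMap.range S.moduleCatToCycles) :=
    P.isoExt 0 (ModuleCat.of R K) ≪≫ Cx.homologyIsoSc' 0 0 1 (by simp) (by simp) ≪≫ S.moduleCatHomologyIso
  let Ψ : (M →ₗ[R] K) →ₗ[R] LinearMap.ker S.g.hom :=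
    { toFun := fun g => ⟨ModuleCat.ofHom (g ∘ₗ aug P), by
        show P.complex.d 1 0 ≫ ModuleCat.ofHom (g ∘ₗ aug P) = 0
        refine ModuleCat.hom_ext (LinearMap.ext fun x => ?_)
        show g (aug P (dLin P 0 x)) = 0
        rw [(aug_exact P).apply_apply_eq_zero, map_zero]⟩
      map_add' := fun g g' => Subtype.ext (ModuleCat.hom_ext (LinearMap.add_comp _ _ _))
      map_smul' := fun r g => Subtype.ext (ModuleCat.hom_ext (LinearMap.smul_comp _ _ _)) }
  have hΨ : Function.Bijective Ψ := by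
    refine ⟨fun g g' h => (LinearMap.cancel_right (aug_surjective P)).1
      (congrArg (fun z : LinearMap.ker S.g.hom => ModuleCat.Hom.hom z.1) h), fun z => ?_⟩
    obtain ⟨z, hz⟩ := z
    change P.complex.d 1 0 ≫ z = 0 at hz
    have hk : LinearMap.ker (aug P) ≤ LinearMap.ker z.hom := fun x hx => by
      obtain ⟨y, rfl⟩ := ((aug_exact P) x).1 hx
      exact LinearMap.congr_fun (congrArg ModuleCat.Hom.hom hz) y
    refine ⟨(LinearMap.ker (aug P)).liftQ z.hom hk ∘ₗ
      (LinearMap.quotKerEquivOfSurjective (aug P) (aug_surjective P)).symm.toLinearMap,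
      Subtype.ext (ModuleCat.hom_ext (LinearMap.ext fun x => ?_))⟩
    show (LinearMap.ker (aug P)).liftQ z.hom hk
      ((LinearMap.quotKerEquivOfSurjective (aug P) (aug_surjective P)).symm (aug P x)) = z.hom x
    rw [(LinearEquiv.symm_apply_eq _).2 (LinearMap.quotKerEquivOfSurjective_apply_mk _ _ x).symm]
    rfl
  have h0 : LinearMap.range S.moduleCatToCycles = ⊥ := LinearMap.range_eq_bot.2 (LinearMap.ext fun x => by
    refine Subtype.ext ?_
    show (Cx.d 0 0).hom x = 0
    rw [Cx.shape 0 0 (by simp)]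
    rfl)
  exact ⟨e.toLinearEquiv.trans ((Submodule.quotEquivOfEqBot _ h0).trans (LinearEquiv.ofBijective Ψ hΨ).symm)⟩

theorem nonempty_ext_succ (i : ℕ) :
    Nonempty (((Ext R (ModuleCat.{u} R) (i + 1)).obj (op M)).obj (ModuleCat.of R K) ≃ₗ[R]
      ((syz P i →ₗ[R] K) ⧸ LinearMap.range (res P K i))) := by
  let Cx := P.complex.linearYonedaObj R (ModuleCat.of R K)
  let S := Cx.sc' i (i + 1) (i + 2)
  let e : ((Ext R (ModuleCat.{u} R) (i + 1)).obj (op M)).obj (ModuleCat.of R K) ≅
      ModuleCat.of R (LinearMap.ker S.g.hom ⧸ LinearMap.range S.moduleCatToCycles) :=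
    P.isoExt (i + 1) (ModuleCat.of R K) ≪≫ Cx.homologyIsoSc' i (i + 1) (i + 2) (by simp) (by simp) ≪≫
      S.moduleCatHomologyIso
  let Ψ : (syz P i →ₗ[R] K) →ₗ[R] LinearMap.ker S.g.hom :=
    { toFun := fun g => ⟨ModuleCat.ofHom (g ∘ₗ syzProj P i), by
        show P.complex.d (i + 2) (i + 1) ≫ ModuleCat.ofHom (g ∘ₗ syzProj P i) = 0
        refine ModuleCat.hom_ext (LinearMap.ext fun x => ?_)
        show g (syzProj P i (dLin P (i + 1) x)) = 0
        rw [show syzProj P i (dLin P (i + 1) x) = 0 from Subtype.ext ((dLin_exact P i).apply_apply_eq_zero x), map_zero]⟩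
      map_add' := fun g g' => Subtype.ext (ModuleCat.hom_ext (LinearMap.add_comp _ _ _))
      map_smul' := fun r g => Subtype.ext (ModuleCat.hom_ext (LinearMap.smul_comp _ _ _)) }
  have hsur : Function.Surjective (syzProj P i) := LinearMap.surjective_rangeRestrict _
  let q : LinearMap.ker S.g.hom →ₗ[R] _ ⧸ LinearMap.range S.moduleCatToCycles := Submodule.mkQ _
  have hqsur : Function.Surjective (q ∘ₗ Ψ) := by
    refine (Submodule.mkQ_surjective _).comp fun z => ?_
    obtain ⟨z, hz⟩ := z
    change P.complex.d (i + 2) (i + 1) ≫ z = 0 at hz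
    have hk : LinearMap.ker (syzProj P i) ≤ LinearMap.ker z.hom := fun x hx => by
      rw [LinearMap.mem_ker, Subtype.ext_iff] at hx
      obtain ⟨y, rfl⟩ := ((dLin_exact P i) x).1 hx
      exact LinearMap.congr_fun (congrArg ModuleCat.Hom.hom hz) y
    refine ⟨(LinearMap.ker (syzProj P i)).liftQ z.hom hk ∘ₗ
      (LinearMap.quotKerEquivOfSurjective (syzProj P i) hsur).symm.toLinearMap,
      Subtype.ext (ModuleCat.hom_ext (LinearMap.ext fun x => ?_))⟩
    show (LinearMap.ker (syzProj P i)).liftQ z.hom hk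
      ((LinearMap.quotKerEquivOfSurjective (syzProj P i) hsur).symm (syzProj P i x)) = z.hom x
    rw [(LinearEquiv.symm_apply_eq _).2 (LinearMap.quotKerEquivOfSurjective_apply_mk _ _ x).symm]
    rfl
  have hker : LinearMap.ker (q ∘ₗ Ψ) = LinearMap.range (res P K i) := by
    refine Submodule.ext fun g => ?_
    rw [LinearMap.mem_ker, LinearMap.comp_apply, show q (Ψ g) = 0 ↔ _ from Submodule.Quotient.mk_eq_zero _]
    constructor
    · rintro ⟨h, hh⟩
      refine ⟨ModuleCat.Hom.hom h, (LinearMap.cancel_right hsur).1 ?_⟩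
      exact congrArg ModuleCat.Hom.hom (congrArg Subtype.val hh)
    · rintro ⟨h, rfl⟩
      exact ⟨ModuleCat.ofHom h, Subtype.ext (ModuleCat.hom_ext rfl)⟩
  exact ⟨e.toLinearEquiv.trans (((Submodule.quotEquivOfEq _ _ hker).symm.trans
    (LinearMap.quotKerEquivOfSurjective _ hqsur)).symm)⟩

end ExtModel

variable {R : Type u} [CommRing R] [IsLocalRing R] [IsNoetherianRing R] {n : ℕ}

section Shift

/-- Kernel of `H^n(N) → H^n(F)`. -/
theorem H_shift (i : ℕ) : ∀ (Q F : ℕ → ModuleCat.{u} R) (f : ∀ j, Q (j + 1) →ₗ[R] F j) (g : ∀ j, F j →ₗ[R] Q j),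
    (∀ j, Function.Injective (f j)) → (∀ j, Function.Exact (f j) (g j)) → (∀ j, Function.Surjective (g j)) →
    (∀ j q, q < n → Subsingleton (LocCoh.H (maximalIdeal R) q (F j))) → i + 1 ≤ n →
    Nonempty (LocCoh.H (maximalIdeal R) (n - (i + 1)) (Q 0) ≃ₗ[R] LinearMap.ker (topMap n (f i))) := by
  induction i with
  | zero =>
    intro Q F f g hf he hg hv hi
    obtain ⟨m, rfl⟩ : ∃ m, n = m + 1 := ⟨n - 1, by omega⟩
    show Nonempty (LocCoh.H (maximalIdeal R) m (Q 0) ≃ₗ[R] _)
    let δ := Hδ (I := maximalIdeal R) (hf 0) (he 0) (hg 0) m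
    have hinj : Function.Injective δ := (injective_iff_map_eq_zero _).2 fun y hy => by
      obtain ⟨z, rfl⟩ := ((exact_Hδ (hf 0) (he 0) (hg 0) m).2 y).1 hy
      haveI := hv 0 m (Nat.lt_succ_self m)
      rw [Subsingleton.elim z 0, map_zero]
    exact ⟨(LinearEquiv.ofInjective δ hinj).trans (LinearEquiv.ofEq _ _
      (LinearMap.exact_iff.1 (exact_Hδ (hf 0) (he 0) (hg 0) m).1).symm)⟩
  | succ i ih =>
    intro Q F f g hf he hg hv hi
    obtain ⟨e⟩ := ih (fun j => Q (j + 1)) (fun j => F (j + 1)) (fun j => f (j + 1)) (fun j => g (j + 1))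
      (fun j => hf _) (fun j => he _) (fun j => hg _) (fun j => hv _) (by omega)
    obtain ⟨k, hk, hk'⟩ : ∃ k, n - (i + 1 + 1) = k ∧ n - (i + 1) = k + 1 := ⟨_, rfl, by omega⟩
    rw [hk]
    rw [hk'] at e
    let δ := Hδ (I := maximalIdeal R) (hf 0) (he 0) (hg 0) k
    have hb : Function.Bijective δ := by
      refine ⟨(injective_iff_map_eq_zero _).2 fun y hy => ?_, fun x => ?_⟩
      · obtain ⟨z, rfl⟩ := ((exact_Hδ (hf 0) (he 0) (hg 0) k).2 y).1 hy
        haveI := hv 0 k (by omega)
        rw [Subsingleton.elim z 0, map_zero]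
      · haveI := hv 0 (k + 1) (by omega)
        exact ((exact_Hδ (hf 0) (he 0) (hg 0) k).1 x).1 (Subsingleton.elim _ _)
    exact ⟨(LinearEquiv.ofBijective δ hb).trans e⟩

end Shift

theorem subsingleton_H_free (q : ℕ) (hR : Subsingleton (LocCoh.H (maximalIdeal R) q R)) (F : Type u) [AddCommGroup F]
    [Module R F] [Module.Finite R F] [Module.Free R F] : Subsingleton (LocCoh.H (maximalIdeal R) q F) := by
  let b := Module.Free.chooseBasis R F
  let e : F ≃ₗ[R] (Fin (Fintype.card (Module.Free.ChooseBasisIndex R F)) → R) :=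
    (b.reindex (Fintype.equivFin _)).equivFun
  refine (subsingleton_H_congr e q).2 (subsingleton_of_forall_eq 0 fun y => ?_)
  obtain ⟨z, rfl⟩ := (tensH_bijective_pi (n := q) _).2 y
  induction z using TensorProduct.induction_on with
  | zero => exact map_zero _
  | tmul a h => rw [Subsingleton.elim h 0, TensorProduct.tmul_zero, map_zero]
  | add a b ha hb => rw [map_add, ha, hb, add_zero]

variable {E : Type u} [AddCommGroup E] [Module R E] {K : Type u} [AddCommGroup K] [Module R K]

/-- The kernel of `H^n(N) → H^n(F)` is dual to the cokernel of `Hom(F, K) → Hom(N, K)`. -/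
theorem kerEquiv (hn : ringKrullDim R ≤ n) (hE : Module.Injective R E)
    (eK : (K →ₗ[R] E) ≃ₗ[R] LocCoh.H (maximalIdeal R) n R)
    {N F : Type u} [AddCommGroup N] [Module R N] [Module.Finite R N] [AddCommGroup F] [Module R F] [Module.Finite R F]
    (s : N →ₗ[R] F) :
    Nonempty (LinearMap.ker (topMap n s) ≃ₗ[R]
      (((N →ₗ[R] K) ⧸ LinearMap.range (LinearMap.lcomp R K s)) →ₗ[R] E)) := by
  let eN := topDual hn hE eK N
  let eF := topDual hn hE eK F
  let S := LinearMap.range (LinearMap.lcomp R K s)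
  have hmem : ∀ y, y ∈ LinearMap.ker (topMap n s) ↔ S ≤ LinearMap.ker (eN y) := fun y => by
    rw [LinearMap.mem_ker, ← LinearEquiv.map_eq_zero_iff eF]
    constructor
    · rintro h _ ⟨k, rfl⟩
      rw [LinearMap.mem_ker]
      exact (topDual_natural hn hE eK s y k).symm.trans (LinearMap.congr_fun h k)
    · intro h
      exact LinearMap.ext fun k => (topDual_natural hn hE eK s y k).trans (h ⟨k, rfl⟩)
  let Φ : LinearMap.ker (topMap n s) →ₗ[R] ((N →ₗ[R] K) ⧸ S) →ₗ[R] E :=
    { toFun := fun y => S.liftQ (eN y.1) ((hmem y.1).1 y.2)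
      map_add' := fun a b => Submodule.linearMap_qext _ (LinearMap.ext fun k => by
        show eN (a.1 + b.1) k = eN a.1 k + eN b.1 k
        rw [map_add, LinearMap.add_apply])
      map_smul' := fun r a => Submodule.linearMap_qext _ (LinearMap.ext fun k => by
        show eN (r • a.1) k = r • eN a.1 k
        rw [map_smul, LinearMap.smul_apply]) }
  have hΦ : Function.Bijective Φ := by
    refine ⟨fun a b h => Subtype.ext (eN.injective (LinearMap.ext fun k => ?_)), fun φ => ?_⟩
    · exact LinearMap.congr_fun h (Submodule.Quotient.mk k)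
    · refine ⟨⟨eN.symm (φ ∘ₗ S.mkQ), (hmem _).2 ?_⟩, Submodule.linearMap_qext _ ?_⟩
      · rw [LinearEquiv.apply_symm_apply]
        intro k hk
        show φ (S.mkQ k) = 0
        rw [Submodule.mkQ_apply, (Submodule.Quotient.mk_eq_zero _).2 hk, map_zero]
      · show S.liftQ (eN (eN.symm (φ ∘ₗ S.mkQ))) _ ∘ₗ S.mkQ = φ ∘ₗ S.mkQ
        rw [Submodule.liftQ_mkQ, LinearEquiv.apply_symm_apply]
  exact ⟨LinearEquiv.ofBijective Φ hΦ⟩

/-- A resolution by finite free modules as short exact sequences. -/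
theorem exists_chain (M : Type u) [AddCommGroup M] [Module R M] [Module.Finite R M] :
    ∃ (P : ProjectiveResolution (ModuleCat.of R M)) (Q : ℕ → ModuleCat.{u} R)
      (f : ∀ j, Q (j + 1) →ₗ[R] P.complex.X j) (g : ∀ j, P.complex.X j →ₗ[R] Q j),
      Q 0 = ModuleCat.of R M ∧
      (∀ j, Function.Injective (f j)) ∧ (∀ j, Function.Exact (f j) (g j)) ∧ (∀ j, Function.Surjective (g j)) ∧
      (∀ j, Module.Finite R (P.complex.X j) ∧ Module.Free R (P.complex.X j)) ∧ (∀ j, Module.Finite R (Q j)) ∧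
      ∀ j, Q (j + 1) = ModuleCat.of R (syz P j) ∧ HEq (f j) (syz P j).subtype := by
  obtain ⟨P, hP⟩ := RichLib.FreeRes.exists_resolution (B := R) (fun N _ _ => Module.Finite R N)
    (fun N _ _ hN => by
      haveI := hN
      obtain ⟨r, φ, hφ⟩ := Module.Finite.exists_fin' R N
      exact ⟨r, φ, hφ, inferInstance⟩) M inferInstance
  let Q : ℕ → ModuleCat.{u} R := fun
    | 0 => ModuleCat.of R M
    | j + 1 => ModuleCat.of R (syz P j)
  let f : ∀ j, Q (j + 1) →ₗ[R] P.complex.X j := fun j => (syz P j).subtype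
  let g : ∀ j, P.complex.X j →ₗ[R] Q j := fun
    | 0 => aug P
    | j + 1 => syzProj P j
  refine ⟨P, Q, f, g, rfl, fun j => Submodule.injective_subtype _, fun j => ?_, fun j => ?_, hP, fun j => ?_,
    fun j => ⟨rfl, HEq.rfl⟩⟩
  · cases j with
    | zero =>
      intro x
      rw [show g 0 x = aug P x from rfl, aug_exact P x]
      exact ⟨fun h => ⟨⟨x, h⟩, rfl⟩, fun ⟨y, hy⟩ => hy ▸ y.2⟩
    | succ j =>
      intro x
      show syzProj P j x = 0 ↔ _
      rw [Subtype.ext_iff]
      show dLin P j x = 0 ↔ _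
      rw [dLin_exact P j x]
      exact ⟨fun h => ⟨⟨x, h⟩, rfl⟩, fun ⟨y, hy⟩ => hy ▸ y.2⟩
  · cases j with
    | zero => exact aug_surjective P
    | succ j => exact LinearMap.surjective_rangeRestrict _
  · cases j with
    | zero => exact inferInstanceAs (Module.Finite R M)
    | succ j =>
      haveI := (hP j).1
      exact inferInstanceAs (Module.Finite R (syz P j))

/-- `H^{n-i}(M) ≅ Hom(Ext^i(M, K), E)`. -/
theorem local_duality (hn : ringKrullDim R ≤ n) (hE : Module.Injective R E)
    (eK : (K →ₗ[R] E) ≃ₗ[R] LocCoh.H (maximalIdeal R) n R)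
    (hvan : ∀ q, q < n → Subsingleton (LocCoh.H (maximalIdeal R) q R))
    (M : Type u) [AddCommGroup M] [Module R M] [Module.Finite R M] (i : ℕ) (hi : i ≤ n) :
    Nonempty (LocCoh.H (maximalIdeal R) (n - i) M ≃ₗ[R]
      ((((Ext R (ModuleCat.{u} R) i).obj (op (ModuleCat.of R M))).obj (ModuleCat.of R K)) →ₗ[R] E)) := by
  obtain ⟨P, hP⟩ := RichLib.FreeRes.exists_resolution (B := R) (fun N _ _ => Module.Finite R N)
    (fun N _ _ hN => by
      haveI := hN
      obtain ⟨r, φ, hφ⟩ := Module.Finite.exists_fin' R N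
      exact ⟨r, φ, hφ, inferInstance⟩) M inferInstance
  cases i with
  | zero =>
    obtain ⟨e⟩ := nonempty_ext_zero P K
    exact ⟨(topDual hn hE eK M).trans (e.symm.arrowCongr (LinearEquiv.refl R E))⟩
  | succ i =>
    let Q : ℕ → ModuleCat.{u} R := fun
      | 0 => ModuleCat.of R M
      | j + 1 => ModuleCat.of R (syz P j)
    let f : ∀ j, Q (j + 1) →ₗ[R] P.complex.X j := fun j => (syz P j).subtype
    let g : ∀ j, P.complex.X j →ₗ[R] Q j := fun
      | 0 => aug P
      | j + 1 => syzProj P j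
    obtain ⟨e₁⟩ := H_shift (n := n) i Q P.complex.X f g (fun j => Submodule.injective_subtype _)
      (fun j => by
        cases j with
        | zero =>
          intro x
          rw [show g 0 x = aug P x from rfl, aug_exact P x]
          exact ⟨fun h => ⟨⟨x, h⟩, rfl⟩, fun ⟨y, hy⟩ => hy ▸ y.2⟩
        | succ j =>
          intro x
          show syzProj P j x = 0 ↔ _
          rw [Subtype.ext_iff]
          show dLin P j x = 0 ↔ _
          rw [dLin_exact P j x]
          exact ⟨fun h => ⟨⟨x, h⟩, rfl⟩, fun ⟨y, hy⟩ => hy ▸ y.2⟩)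
      (fun j => by
        cases j with
        | zero => exact aug_surjective P
        | succ j => exact LinearMap.surjective_rangeRestrict _)
      (fun j q hq => by
        haveI := (hP j).1
        haveI := (hP j).2
        exact subsingleton_H_free q (hvan q hq) (P.complex.X j)) hi
    obtain ⟨e₂⟩ := nonempty_ext_succ P K i
    haveI := (hP i).1
    obtain ⟨e₃⟩ := kerEquiv hn hE eK (syz P i).subtype
    exact ⟨e₁.trans (e₃.trans (e₂.symm.arrowCongr (LinearEquiv.refl R E)))⟩

end CanonModLib
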