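import Groth.Agent.CanonModLib.InjDim
import Groth.Agent.DualCxLib.LocDualGor
import Groth.Agent.DualCxLib.QuotDual

/-!
# Local duality over a regular local ring, in terms of `Ext`
-/

set_option autoImplicit false
set_option linter.style.haveILetI false
set_option linter.unusedSectionVars false
set_option maxHeartbeats 400000

universe u

open CategoryTheory IsLocalRing LocCohLib Opposite

noncomputable section

namespace CanonModLib

variable {R : Type u} [CommRing R] [IsLocalRing R] [IsNoetherianRing R] {n : ℕ} {E : Type u} [AddCommGroup E] [Module R E]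
  {f₀ : ResidueField R →ₗ[R] E} {K : Type u} [AddCommGroup K] [Module R K]

/-- `Ext^i(M, K) = 0` beyond the dimension. -/
theorem subsingleton_ext_succ (hf₀ : InjHull.IsInjectiveHull f₀) (hn : ringKrullDim R ≤ n)
    (eK : (K →ₗ[R] E) ≃ₗ[R] LocCoh.H (maximalIdeal R) n R)
    (hvan : ∀ q, q < n → Subsingleton (LocCoh.H (maximalIdeal R) q R))
    (M : Type u) [AddCommGroup M] [Module R M] [Module.Finite R M] (i : ℕ) (hi : n ≤ i) :
    Subsingleton (((Ext R (ModuleCat.{u} R) (i + 1)).obj (op (ModuleCat.of R M))).obj (ModuleCat.of R K)) := by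
  obtain ⟨P, hP⟩ := RichLib.FreeRes.exists_resolution (B := R) (fun N _ _ => Module.Finite R N)
    (fun N _ _ hN => by
      haveI := hN
      obtain ⟨r, φ, hφ⟩ := Module.Finite.exists_fin' R N
      exact ⟨r, φ, hφ, inferInstance⟩) M inferInstance
  let Q : ℕ → ModuleCat.{u} R := fun
    | 0 => ModuleCat.of R M
    | j + 1 => ModuleCat.of R (syz P j)
  let f : ∀ j, Q (j + 1) →ₗ[R] P.complex.X j := fun j => (syz P j).subtype
  let g : ∀ j, P.complex.X j →ₗ[R] Q j := fun
    | 0 => aug P
    | j + 1 => syzProj P j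
  haveI := subsingleton_ker_topMap (n := n) Q P.complex.X f g (fun j => Submodule.injective_subtype _) (fun j => by
      cases j with
      | zero =>
        intro x
        rw [show g 0 x = aug P x from rfl, aug_exact P x]
        exact ⟨fun h => ⟨⟨x, h⟩, rfl⟩, fun ⟨y, hy⟩ => hy ▸ y.2⟩
      | succ j =>
        intro x
        show syzProj P j x = 0 ↔ _
        rw [Subtype.ext_iff]
        show dLin P j x = 0 ↔ _
        rw [dLin_exact P j x]
        exact ⟨fun h => ⟨⟨x, h⟩, rfl⟩, fun ⟨y, hy⟩ => hy ▸ y.2⟩)
    (fun j => by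
      cases j with
      | zero => exact aug_surjective P
      | succ j => exact LinearMap.surjective_rangeRestrict _)
    (fun j q hq => by
      haveI := (hP j).1
      haveI := (hP j).2
      exact subsingleton_H_free q (hvan q hq) (P.complex.X j)) i hi
  haveI : Subsingleton (LinearMap.ker (topMap n (syz P i).subtype)) := this
  haveI := (hP i).1
  obtain ⟨e₂⟩ := nonempty_ext_succ P K i
  obtain ⟨e⟩ := kerEquiv hn hf₀.isInjective eK (syz P i).subtype
  haveI := e.symm.injective.subsingleton
  haveI := subsingleton_of_dual (Q := (syz P i →ₗ[R] K) ⧸ LinearMap.range (res P K i)) hf₀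
  exact e₂.injective.subsingleton

theorem supportDim_le_zero_of_finLen (M : Type u) [AddCommGroup M] [Module R M] (h : IsFiniteLength R M) :
    Module.supportDim R M ≤ 0 := by
  obtain ⟨k, hk⟩ := InjHullLib.exists_pow_smul_eq_zero h
  refine iSup_le fun l => ?_
  have hx : ∀ P : Module.support R M, P.1.asIdeal = maximalIdeal R := fun P => by
    refine le_antisymm (le_maximalIdeal P.1.2.ne_top) (P.1.2.le_of_pow_le (n := k) fun a ha => ?_)
    exact Module.annihilator_le_of_mem_support P.2 (Module.mem_annihilator.2 (hk a ha))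
  have hl : l.length = 0 := Nat.eq_zero_of_not_pos fun hpos =>
    (l.step ⟨0, hpos⟩).ne (Subtype.ext (PrimeSpectrum.ext ((hx _).trans (hx _).symm)))
  rw [hl]
  exact le_rfl

theorem regular_canon (A : Type u) [CommRing A] [IsRegularLocalRing A] (n : ℕ) (hn : ringKrullDim A = n)
    (E : Type u) [AddCommGroup E] [Module A E] (f : ResidueField A →ₗ[A] E) (hf : InjHull.IsInjectiveHull f) :
    (∀ q, q < n → Subsingleton (LocCoh.H (maximalIdeal A) q A)) ∧
      Nonempty ((A →ₗ[A] E) ≃ₗ[A] LocCoh.H (maximalIdeal A) n A) := by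
  haveI := Groth.Agent.DualCxLib.gorenstein_of_regular A
  obtain ⟨hv, g, hg⟩ := Groth.Agent.DualCxLib.gorenstein_localCohomology (A := A) n hn
  obtain ⟨e, -⟩ := InjHullLib.hull_unique hf hg
  exact ⟨fun q hq => hv q hq.ne, ⟨(LinearMap.ringLmapEquivSelf A A E).trans e⟩⟩

theorem ext_finLen (A : Type u) [CommRing A] [IsRegularLocalRing A] (n : ℕ) (hn : ringKrullDim A = n)
    (M : Type u) [AddCommGroup M] [Module A M] (hM : IsFiniteLength A M) :
    (∀ i : ℕ, i ≠ n → Subsingleton (((Ext A (ModuleCat.{u} A) i).obj (op (ModuleCat.of A M))).obj (ModuleCat.of A A))) ∧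
      Module.length A (((Ext A (ModuleCat.{u} A) n).obj (op (ModuleCat.of A M))).obj (ModuleCat.of A A)) =
        Module.length A M := by
  obtain ⟨E, _, _, f, hf⟩ := InjHullLib.exists_injectiveHull (R := A) (ResidueField A)
  obtain ⟨hvan, ⟨eK⟩⟩ := regular_canon A n hn E f hf
  haveI : IsNoetherian A M := (isFiniteLength_iff_isNoetherian_isArtinian.1 hM).1
  haveI : Module.Finite A M := inferInstance
  have hdim := supportDim_le_zero_of_finLen M hM
  refine ⟨fun i hi => ?_, ?_⟩
  · rcases lt_or_gt_of_ne hi with h | h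
    · obtain ⟨e⟩ := local_duality hn.le hf.isInjective eK hvan M i h.le
      haveI := subsingleton_H_of_supportDim_lt (I := maximalIdeal A) (n - i) M
        (lt_of_le_of_lt hdim (by exact_mod_cast (by omega : 0 < n - i)))
      haveI := e.symm.injective.subsingleton
      exact subsingleton_of_dual hf
    · obtain ⟨j, rfl⟩ : ∃ j, i = j + 1 := ⟨i - 1, by omega⟩
      exact subsingleton_ext_succ hf hn.le eK hvan M j (by omega)
  · obtain ⟨e⟩ := local_duality hn.le hf.isInjective eK hvan M n le_rfl
    rw [Nat.sub_self] at e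
    obtain ⟨k, hk⟩ := InjHullLib.exists_pow_smul_eq_zero hM
    obtain ⟨e0⟩ := H0Equiv_of_torsion (maximalIdeal A) M fun x => ⟨k, fun a ha => hk a ha x⟩
    let d := e0.symm.trans e
    set W := ((Ext A (ModuleCat.{u} A) n).obj (op (ModuleCat.of A M))).obj (ModuleCat.of A A)
    have hW : ∀ a ∈ maximalIdeal A ^ k, ∀ w : W, a • w = 0 := fun a ha w => eq_zero_of_forall hf fun φ => by
      obtain ⟨x, rfl⟩ := d.surjective φ
      rw [map_smul, ← LinearMap.smul_apply, ← map_smul, hk a ha x, map_zero, LinearMap.zero_apply]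
    -- finite length of the `Ext`
    have hdual : IsFiniteLength A ((M →ₗ[A] E)) := by
      rw [← Module.length_ne_top_iff, InjHullLib.length_hom hf hM hk, Module.length_ne_top_iff]
      exact hM
    let J : W →ₗ[A] (M →ₗ[A] E) := (LinearMap.lcomp A E d.toLinearMap) ∘ₗ LinearMap.applyₗ
    have hJ : Function.Injective J := (injective_iff_map_eq_zero _).2 fun w hw => eq_zero_of_forall hf fun φ => by
      obtain ⟨x, rfl⟩ := d.surjective φ
      exact LinearMap.congr_fun hw x
    have hWlen : IsFiniteLength A W := by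
      rw [← Module.length_ne_top_iff] at hdual ⊢
      exact ne_top_of_le_ne_top hdual (Module.length_le_of_injective J hJ)
    rw [← InjHullLib.length_hom hf hWlen hW, d.length_eq]

end CanonModLib
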