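import Groth.Agent.LocCohLib.LocalCohomology

/-! Local cohomology is additive. -/

set_option autoImplicit false
universe v u

noncomputable section

open CategoryTheory CategoryTheory.Limits Opposite

namespace LocCohLib

variable {R : Type u} [CommRing R]

theorem additive_homCxFunctor {D : Type v} [SmallCategory D] {X : D ⥤ ModuleCat.{u} R} (S : ResSystem X) :
    S.homCxFunctor.Additive where
  map_add {M N f g} := by
    ext j : 1
    apply NatTrans.ext; funext d
    ext (x : _ ⟶ M)
    exact Preadditive.comp_add _ _ _ x f g

theorem additive_localCohomology (I : Ideal R) (i : ℕ) : (localCohomology I i).Additive := by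
  haveI := additive_homCxFunctor (lcSystem I)
  haveI : PreservesBinaryBiproducts (colim (J := ℕᵒᵖᵒᵖ) (C := ModuleCat.{u} R)) :=
    preservesBinaryBiproducts_of_preservesBinaryCoproducts _
  haveI : (colim (J := ℕᵒᵖᵒᵖ) (C := ModuleCat.{u} R)).Additive := Functor.additive_of_preservesBinaryBiproducts _
  haveI : ((lcSystem I).coh i).Additive := by unfold ResSystem.coh; infer_instance
  exact Functor.additive_of_iso (lcIso I i).symm

end LocCohLib
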