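import Groth.Agent.CanonModLib.CM
import Groth.Agent.DualCxLib.LocDualGor

/-!
# Statements about canonical modules
-/

set_option autoImplicit false
set_option linter.style.haveILetI false
set_option linter.unusedSectionVars false

universe u

open CategoryTheory IsLocalRing LocCohLib
open scoped TensorProduct Pointwise

noncomputable section

namespace CanonModLib

variable {R : Type u} [CommRing R] {n : ℕ} {E : Type u} [AddCommGroup E] [Module R E]
  {K : Type u} [AddCommGroup K] [Module R K]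

theorem CMPair.of_cohenMacaulay [LocCoh.IsCohenMacaulayLocalRing R] (hn : ringKrullDim R = n)
    (eK : (K →ₗ[R] E) ≃ₗ[R] LocCoh.H (maximalIdeal R) n R) : CMPair R E n R K := by
  have hs : Module.supportDim R R = n := by rw [Module.supportDim_self_eq_ringKrullDim, hn]
  refine ⟨hs, (le_idealDepth_iff_subsingleton_H R n).1 ?_, ⟨eK⟩⟩
  have h := LocCoh.IsCohenMacaulayLocalRing.supportDim_eq_depth (R := R)
  rw [hs] at h
  exact le_of_eq (WithBot.coe_inj.1 h)

theorem exists_cyclic : ∃ p₀ : R, ∀ p, ∃ r : R, r • p₀ = p := ⟨1, fun p => ⟨p, mul_one p⟩⟩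

theorem toEnd_bijective [LocCoh.IsCohenMacaulayLocalRing R] [Module.Finite R K] {f : ResidueField R →ₗ[R] E}
    (hf : InjHull.IsInjectiveHull f) (hn : ringKrullDim R = n)
    (eK : (K →ₗ[R] E) ≃ₗ[R] LocCoh.H (maximalIdeal R) n R) :
    Function.Bijective (fun r : R => r • (LinearMap.id : K →ₗ[R] K)) := by
  obtain ⟨hend, hann⟩ := (CMPair.of_cohenMacaulay hn eK).end_eq hf n R K exists_cyclic
  refine ⟨fun r s h => sub_eq_zero.1 ?_, fun g => (hend g).imp fun r hr => hr.symm⟩
  have h1 : r - s ∈ Module.annihilator R R := hann (Module.mem_annihilator.2 fun x => by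
    rw [sub_smul, sub_eq_zero]
    exact LinearMap.congr_fun h x)
  simpa using Module.mem_annihilator.1 h1 1

theorem gorenstein_iff_free [LocCoh.IsCohenMacaulayLocalRing R] [Module.Finite R K] {f : ResidueField R →ₗ[R] E}
    (hf : InjHull.IsInjectiveHull f) (hn : ringKrullDim R = n)
    (eK : (K →ₗ[R] E) ≃ₗ[R] LocCoh.H (maximalIdeal R) n R) :
    LocCoh.IsGorensteinLocalRing R ↔ Nonempty (K ≃ₗ[R] R) := by
  constructor
  · intro h
    obtain ⟨-, g, hg⟩ := @Groth.Agent.DualCxLib.gorenstein_localCohomology R _ _ h n hn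
    obtain ⟨e, -⟩ := InjHullLib.hull_unique hg hf
    exact nonempty_equiv_of_dual hf ((eK.trans e).trans (LinearMap.ringLmapEquivSelf R R E).symm)
  · rintro ⟨e⟩
    refine Groth.Agent.DualCxLib.gorenstein_of_single_injective n R (fun i hi => ?_) ?_
    · rcases lt_or_gt_of_ne hi with h | h
      · exact (CMPair.of_cohenMacaulay hn eK).vanish i h
      · exact subsingleton_H_of_supportDim_lt i R (by
          rw [Module.supportDim_self_eq_ringKrullDim, hn]; exact_mod_cast h)
    · exact InjHullLib.injective_of_equiv hf.isInjective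
        ((((LinearMap.ringLmapEquivSelf R R E).symm.trans (e.symm.arrowCongr (LinearEquiv.refl R E)))).trans eK)

theorem nontrivial_quot_smul [IsLocalRing R] {M : Type u} [AddCommGroup M] [Module R M] [Module.Finite R M]
    [Nontrivial M] (as : List R) (has : ∀ a ∈ as, a ∈ maximalIdeal R) :
    (⊤ : Submodule R M) ≠ Ideal.ofList as • ⊤ :=
  Submodule.top_ne_ideal_smul_of_le_jacobson_annihilator
    ((Ideal.span_le.2 has).trans (maximalIdeal_le_jacobson _))

theorem isRegular_iff_and_quotient [LocCoh.IsCohenMacaulayLocalRing R] [Module.Finite R K] {f : ResidueField R →ₗ[R] E}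
    (hf : InjHull.IsInjectiveHull f) (hn : ringKrullDim R = n)
    (eK : (K →ₗ[R] E) ≃ₗ[R] LocCoh.H (maximalIdeal R) n R) (as : List R) (has : ∀ a ∈ as, a ∈ maximalIdeal R) :
    (RingTheory.Sequence.IsRegular R as ↔ RingTheory.Sequence.IsRegular K as) ∧
      (RingTheory.Sequence.IsRegular R as → Nonempty (((K ⧸ (Ideal.ofList as • (⊤ : Submodule R K))) →ₗ[R] E)
        ≃ₗ[R] LocCoh.H (maximalIdeal R) (n - as.length) (R ⧸ Ideal.ofList as))) := by
  have h := CMPair.of_cohenMacaulay hn eK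
  obtain ⟨hiff, hquot⟩ := CMPair.weaklyRegular_iff hf as n R K h has
  haveI := h.nontrivialQ
  refine ⟨⟨fun hr => ⟨hiff.1 hr.toIsWeaklyRegular, nontrivial_quot_smul as has⟩,
    fun hr => ⟨hiff.2 hr.toIsWeaklyRegular, nontrivial_quot_smul as has⟩⟩, fun hr => ?_⟩
  obtain ⟨-, h'⟩ := hquot hr.toIsWeaklyRegular
  obtain ⟨e⟩ := h'.dual
  exact ⟨e.trans ((localCohomology (maximalIdeal R) (n - as.length)).mapIso
    (Submodule.quotEquivOfEq _ (Ideal.ofList as) (by rw [smul_eq_mul, Ideal.mul_top])).toModuleIso).toLinearEquiv⟩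

theorem endo_reduction [LocCoh.IsCohenMacaulayLocalRing R] [Module.Finite R K] {f : ResidueField R →ₗ[R] E}
    (hf : InjHull.IsInjectiveHull f) (hn : ringKrullDim R = n)
    (eK : (K →ₗ[R] E) ≃ₗ[R] LocCoh.H (maximalIdeal R) n R) (a : R) (ha : a ∈ maximalIdeal R) (hreg : IsSMulRegular R a) :
    (∀ ψ : (K ⧸ (a • (⊤ : Submodule R K))) →ₗ[R] (K ⧸ (a • (⊤ : Submodule R K))), ∃ g : K →ₗ[R] K,
      ∀ x : K, ψ (Submodule.Quotient.mk x) = Submodule.Quotient.mk (g x)) ∧
      (∀ g : K →ₗ[R] K, (∀ x : K, g x ∈ a • (⊤ : Submodule R K)) ↔ ∃ g' : K →ₗ[R] K, g = a • g') := by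
  obtain ⟨d', rfl, h', hQ⟩ := (CMPair.of_cohenMacaulay hn eK).quot ha hreg hf
  obtain ⟨hend, -⟩ := h'.end_eq hf d' (QuotSMulTop a R) (QuotSMulTop a K)
    ⟨Submodule.Quotient.mk 1, fun p => by
      obtain ⟨p, rfl⟩ := Submodule.Quotient.mk_surjective _ p
      exact ⟨p, by rw [← Submodule.Quotient.mk_smul, smul_eq_mul, mul_one]⟩⟩
  refine ⟨fun ψ => ?_, fun g => ⟨fun hg => ?_, ?_⟩⟩
  · obtain ⟨r, hr⟩ := hend ψ
    exact ⟨r • LinearMap.id, fun x => by rw [hr]; rfl⟩
  · have hg' : ∀ x, ∃ y, a • y = g x := fun x =>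
      ((Submodule.mem_smul_pointwise_iff_exists _ _ _).1 (hg x)).imp fun y hy => hy.2
    choose g' hg' using hg'
    refine ⟨{ toFun := g', map_add' := fun x y => hQ ?_, map_smul' := fun c x => hQ ?_ },
      LinearMap.ext fun x => (hg' x).symm⟩
    · show a • g' (x + y) = a • (g' x + g' y)
      rw [smul_add, hg', hg', hg', map_add]
    · show a • g' (c • x) = a • (c • g' x)
      rw [smul_comm a c, hg', hg', map_smul]
  · rintro ⟨g', rfl⟩ x
    exact Submodule.smul_mem_pointwise_smul (g' x) a ⊤ trivial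

end CanonModLib
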