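import Groth.Agent.CanonModLib.Top
import Groth.Agent.CommAlgDim.DepthBounds
import Groth.Agent.InjHullLib.DoubleDual

/-!
# Canonical modules of Cohen–Macaulay local rings
-/

set_option autoImplicit false
set_option linter.style.haveILetI false
set_option linter.unusedSectionVars false

universe u

open CategoryTheory IsLocalRing LocCohLib
open scoped TensorProduct Pointwise

noncomputable section

namespace CanonModLib

variable {R : Type u} [CommRing R] [IsLocalRing R] [IsNoetherianRing R] {E : Type u} [AddCommGroup E] [Module R E]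
  {f : ResidueField R →ₗ[R] E}

/-- The functionals into the hull separate. -/
theorem eq_zero_of_forall (hf : InjHull.IsInjectiveHull f) {Q : Type u} [AddCommGroup Q] [Module R Q] {x : Q}
    (h : ∀ φ : Q →ₗ[R] E, φ x = 0) : x = 0 :=
  InjHullLib.applyₗ_injective_local hf (LinearMap.ext fun φ => (h φ).trans (map_zero φ).symm)

theorem subsingleton_of_dual (hf : InjHull.IsInjectiveHull f) {Q : Type u} [AddCommGroup Q] [Module R Q]
    [Subsingleton (Q →ₗ[R] E)] : Subsingleton Q :=
  subsingleton_of_forall_eq 0 fun x => eq_zero_of_forall hf fun φ => by rw [Subsingleton.elim φ 0]; rfl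

/-- An isomorphism of duals gives an isomorphism of finite modules. -/
theorem exists_surjective_of_dual (hf : InjHull.IsInjectiveHull f) {K K' : Type u} [AddCommGroup K] [Module R K]
    [Module.Finite R K] [AddCommGroup K'] [Module R K'] [Module.Finite R K'] (θ : (K →ₗ[R] E) ≃ₗ[R] (K' →ₗ[R] E)) :
    ∃ g : K' →ₗ[R] K, Function.Surjective g := by
  classical
  let C := AdicCompletion (maximalIdeal R) R
  let cK : C ⊗[R] K ≃ₗ[R] ((K →ₗ[R] E) →ₗ[R] E) := LinearEquiv.ofBijective _ (InjHullLib.compEval_bijective hf K)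
  let cK' : C ⊗[R] K' ≃ₗ[R] ((K' →ₗ[R] E) →ₗ[R] E) := LinearEquiv.ofBijective _ (InjHullLib.compEval_bijective hf K')
  let Φ : C ⊗[R] K' ≃ₗ[R] C ⊗[R] K :=
    cK'.trans ((θ.symm.arrowCongr (LinearEquiv.refl R E)).trans cK.symm)
  let T : K' →ₗ[R] C ⊗[R] K := Φ.toLinearMap ∘ₗ TensorProduct.mk R C K' 1
  obtain ⟨a, b, ρ, π, hπ, he⟩ := exists_presentation (R := R) K'
  -- evaluation of `C ⊗ Hom(X, K)`
  let ev : ∀ (X : Type u) [AddCommGroup X] [Module R X], C ⊗[R] (X →ₗ[R] K) → X → C ⊗[R] K :=
    fun X _ _ z x => (LinearMap.applyₗ x : (X →ₗ[R] K) →ₗ[R] K).lTensor C z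
  have ev_nat : ∀ {X Y : Type u} [AddCommGroup X] [Module R X] [AddCommGroup Y] [Module R Y] (σ : X →ₗ[R] Y)
      (z : C ⊗[R] (Y →ₗ[R] K)) (x : X), ev X ((LinearMap.lcomp R K σ).lTensor C z) x = ev Y z (σ x) := by
    intro X Y _ _ _ _ σ z x
    show (LinearMap.applyₗ x).lTensor C ((LinearMap.lcomp R K σ).lTensor C z) = _
    rw [← LinearMap.comp_apply, ← LinearMap.lTensor_comp]
    rfl
  let j : ∀ (r : ℕ), Fin r → (K →ₗ[R] ((Fin r → R) →ₗ[R] K)) := fun r i =>
    LinearMap.lcomp R K (LinearMap.proj i : (Fin r → R) →ₗ[R] R) ∘ₗ (LinearMap.ringLmapEquivSelf R R K).symm.toLinearMap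
  have hrec : ∀ (r : ℕ) (z : C ⊗[R] ((Fin r → R) →ₗ[R] K)),
      z = ∑ i, (j r i).lTensor C (ev _ z (Pi.single i 1)) := by
    intro r z
    have hid : (LinearMap.id : ((Fin r → R) →ₗ[R] K) →ₗ[R] _) =
        ∑ i, j r i ∘ₗ LinearMap.applyₗ (Pi.single i (1 : R) : Fin r → R) := by
      refine LinearMap.ext fun g => LinearMap.pi_ext' fun k => LinearMap.ext_ring ?_
      simp [j, LinearMap.sum_apply, Pi.single_apply]
    show z = ∑ i, (j r i).lTensor C ((LinearMap.applyₗ (Pi.single i (1 : R) : Fin r → R)).lTensor C z)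
    simp_rw [← LinearMap.comp_apply, ← LinearMap.lTensor_comp]
    rw [← LinearMap.sum_apply, show (∑ d, LinearMap.lTensor C (j r d ∘ₗ LinearMap.applyₗ (Pi.single d (1 : R) : Fin r → R))) =
      LinearMap.lTensorHom C (∑ d, j r d ∘ₗ LinearMap.applyₗ (Pi.single d (1 : R) : Fin r → R)) from
        (map_sum (LinearMap.lTensorHom C) _ _).symm, ← hid]
    exact (LinearMap.congr_fun (LinearMap.lTensor_id C _) z).symm
  let W : C ⊗[R] ((Fin a → R) →ₗ[R] K) := ∑ i, (j a i).lTensor C (T (π (Pi.single i 1)))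
  have hW : ∀ x, ev _ W x = T (π x) := by
    intro x
    have h1 : ∀ i, ev _ ((j a i).lTensor C (T (π (Pi.single i 1)))) x = x i • T (π (Pi.single i 1)) := fun i => by
      show (LinearMap.applyₗ x).lTensor C ((j a i).lTensor C _) = _
      rw [← LinearMap.comp_apply, ← LinearMap.lTensor_comp,
        show LinearMap.applyₗ x ∘ₗ j a i = x i • (LinearMap.id : K →ₗ[R] K) from
          LinearMap.ext fun k => by simp [j], LinearMap.lTensor_smul, LinearMap.lTensor_id]
      rfl
    show (LinearMap.applyₗ x).lTensor C W = _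
    rw [map_sum]
    rw [Finset.sum_congr rfl fun i _ => h1 i]
    conv_rhs => rw [pi_eq_sum_univ' x, map_sum, map_sum]
    exact Finset.sum_congr rfl fun i _ => by rw [map_smul, map_smul]
  have hW0 : (LinearMap.lcomp R K ρ).lTensor C W = 0 := by
    rw [hrec b ((LinearMap.lcomp R K ρ).lTensor C W)]
    refine Finset.sum_eq_zero fun i _ => ?_
    rw [ev_nat, hW, he.apply_apply_eq_zero, map_zero, map_zero]
  have hexact : Function.Exact (LinearMap.lcomp R K π) (LinearMap.lcomp R K ρ) := fun g => ⟨fun hg => by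
    have hk : LinearMap.ker π ≤ LinearMap.ker g := fun x hx => by
      obtain ⟨z, rfl⟩ := (he x).1 hx
      exact LinearMap.congr_fun hg z
    refine ⟨(LinearMap.ker π).liftQ g hk ∘ₗ (LinearMap.quotKerEquivOfSurjective π hπ).symm.toLinearMap,
      LinearMap.ext fun x => ?_⟩
    show (LinearMap.ker π).liftQ g hk ((LinearMap.quotKerEquivOfSurjective π hπ).symm (π x)) = g x
    rw [(LinearEquiv.symm_apply_eq _).2 (LinearMap.quotKerEquivOfSurjective_apply_mk π hπ x).symm]
    rfl, by
    rintro ⟨h, rfl⟩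
    exact LinearMap.ext fun z => by
      show h (π (ρ z)) = 0
      rw [he.apply_apply_eq_zero, map_zero]⟩
  haveI : Module.Flat R C := AdicCompletion.flat_of_isNoetherian _
  obtain ⟨U, hU⟩ := ((Module.Flat.lTensor_exact C hexact) W).1 hW0
  -- reduction modulo the maximal ideal
  let k := R ⧸ maximalIdeal R ^ 1
  let ε : C →ₗ[R] k := (AdicCompletion.evalₐ (maximalIdeal R) 1).toLinearMap
  have hred : ∀ (X : Type u) [AddCommGroup X] [Module R X] (z : C ⊗[R] X), ∃ x : X,
      z - (1 : C) ⊗ₜ[R] x ∈ maximalIdeal R • (⊤ : Submodule R (C ⊗[R] X)) := by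
    intro X _ _ z
    induction z using TensorProduct.induction_on with
    | zero => exact ⟨0, by simp⟩
    | add u v hu hv =>
      obtain ⟨x, hx⟩ := hu
      obtain ⟨y, hy⟩ := hv
      exact ⟨x + y, by rw [TensorProduct.tmul_add, add_sub_add_comm]; exact add_mem hx hy⟩
    | tmul ξ x =>
      obtain ⟨r, hr⟩ := Ideal.Quotient.mk_surjective (ε ξ)
      refine ⟨r • x, ?_⟩
      rw [← TensorProduct.smul_tmul, ← TensorProduct.sub_tmul]
      have h2 : ξ - r • (1 : C) ∈ maximalIdeal R ^ 1 • (⊤ : Submodule R C) := by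
        rw [AdicCompletion.pow_smul_top_eq_ker_eval (IsNoetherian.noetherian _), LinearMap.mem_ker, map_sub, sub_eq_zero,
          map_smul]
        obtain ⟨s, rfl⟩ := AdicCompletion.mk_surjective (maximalIdeal R) R ξ
        change Ideal.Quotient.mk _ r = AdicCompletion.evalₐ (maximalIdeal R) 1 (AdicCompletion.mk _ R s) at hr
        rw [AdicCompletion.evalₐ_mk] at hr
        have h4 := Ideal.Quotient.eq.1 hr.symm
        show Submodule.Quotient.mk (s.1 1) = Submodule.Quotient.mk (r • (1 : R))
        rw [Submodule.Quotient.eq]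
        simpa only [smul_eq_mul, mul_one, Ideal.mul_top] using h4
      rw [pow_one] at h2
      generalize ξ - r • (1 : C) = w at h2
      induction h2 using Submodule.smul_induction_on' with
      | smul c hc w _ => rw [← TensorProduct.smul_tmul']; exact Submodule.smul_mem_smul hc Submodule.mem_top
      | add c _ d _ hc hd => rw [TensorProduct.add_tmul]; exact add_mem hc hd
  obtain ⟨g, hg⟩ := hred _ U
  refine ⟨g, LinearMap.range_eq_top.1 (eq_top_iff.2 (Submodule.le_of_le_smul_of_le_jacobson_bot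
    (I := maximalIdeal R) (IsNoetherian.noetherian _) (by rw [IsLocalRing.jacobson_eq_maximalIdeal _ bot_ne_top]) ?_))⟩
  intro x _
  -- modulo `m`, `g` agrees with `T`
  let red : C ⊗[R] K →ₗ[R] k ⊗[R] K := ε.rTensor K
  have hkill : ∀ {X : Type u} [AddCommGroup X] [Module R X] (φ : X →ₗ[R] k ⊗[R] K) (z : X),
      z ∈ maximalIdeal R • (⊤ : Submodule R X) → φ z = 0 := by
    intro X _ _ φ z hz
    induction hz using Submodule.smul_induction_on' with
    | smul c hc w _ =>
      rw [map_smul]
      generalize φ w = t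
      induction t using TensorProduct.induction_on with
      | zero => exact smul_zero _
      | add u v hu hv => rw [smul_add, hu, hv, add_zero]
      | tmul q y =>
        obtain ⟨q, rfl⟩ := Ideal.Quotient.mk_surjective q
        rw [TensorProduct.smul_tmul', show c • (Ideal.Quotient.mk (maximalIdeal R ^ 1) q) = 0 from
          Ideal.Quotient.eq_zero_iff_mem.2 (by rw [pow_one]; exact Ideal.mul_mem_right _ _ hc), TensorProduct.zero_tmul]
    | add c _ d _ hc hd => rw [map_add, hc, hd, add_zero]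
  have hgT : ∀ y : K', red ((1 : C) ⊗ₜ[R] g y) = red (T y) := by
    intro y
    obtain ⟨y, rfl⟩ := hπ y
    have h1 := hkill (red ∘ₗ (LinearMap.applyₗ (π y)).lTensor C) _ hg
    rw [map_sub, sub_eq_zero] at h1
    rw [← hW, ← hU, ev_nat]
    exact h1.symm
  obtain ⟨z, hz⟩ := Φ.surjective ((1 : C) ⊗ₜ[R] x)
  obtain ⟨y, hy⟩ := hred K' z
  have h2 : red (T y) = red ((1 : C) ⊗ₜ[R] x) := by
    have h3 := hkill (red ∘ₗ Φ.toLinearMap) _ hy
    rw [map_sub, sub_eq_zero] at h3
    rw [← hz]
    exact h3.symm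
  rw [← hgT] at h2
  -- the kernel of `x ↦ 1 ⊗ x` modulo `m`
  have h4 : x - g y ∈ maximalIdeal R • (⊤ : Submodule R K) := by
    have h5 : (1 : k) ⊗ₜ[R] (x - g y) = 0 := by
      rw [TensorProduct.tmul_sub, sub_eq_zero]
      simpa [red, ε] using h2.symm
    have h6 := congrArg (TensorProduct.quotTensorEquivQuotSMul K (maximalIdeal R ^ 1)) h5
    rw [map_zero, show (1 : k) = Ideal.Quotient.mk (maximalIdeal R ^ 1) (1 : R) from rfl,
      TensorProduct.quotTensorEquivQuotSMul_mk_tmul, one_smul, Submodule.Quotient.mk_eq_zero, pow_one] at h6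
    exact h6
  have : g y + (x - g y) ∈ LinearMap.range g ⊔ maximalIdeal R • (⊤ : Submodule R K) :=
    Submodule.add_mem_sup ⟨y, rfl⟩ h4
  rwa [add_sub_cancel] at this

theorem nonempty_equiv_of_dual (hf : InjHull.IsInjectiveHull f) {K K' : Type u} [AddCommGroup K] [Module R K]
    [Module.Finite R K] [AddCommGroup K'] [Module R K'] [Module.Finite R K'] (θ : (K →ₗ[R] E) ≃ₗ[R] (K' →ₗ[R] E)) :
    Nonempty (K ≃ₗ[R] K') := by
  obtain ⟨g, hg⟩ := exists_surjective_of_dual hf θ
  obtain ⟨g', hg'⟩ := exists_surjective_of_dual hf θ.symm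
  have h := OrzechProperty.injective_of_surjective_endomorphism (g ∘ₗ g') (hg.comp hg')
  exact ⟨LinearEquiv.ofBijective g' ⟨fun a b hab => h (congrArg g hab), hg'⟩⟩

/-! ### Dual pairs -/

theorem topMap_smul_surjective_iff {d : ℕ} {P Q : Type u} [AddCommGroup P] [Module R P] [AddCommGroup Q]
    [Module R Q] (e : (Q →ₗ[R] E) ≃ₗ[R] LocCoh.H (maximalIdeal R) d P) (hf : InjHull.IsInjectiveHull f) (a : R) :
    Function.Surjective (topMap d (a • (LinearMap.id : P →ₗ[R] P))) ↔ IsSMulRegular Q a := by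
  constructor
  · intro h
    refine isSMulRegular_iff_right_eq_zero_of_smul.2 fun q hq => eq_zero_of_forall hf fun φ => ?_
    obtain ⟨y, hy⟩ := h (e φ)
    rw [show topMap d (a • (LinearMap.id : P →ₗ[R] P)) y = a • y from Hf_smul_id a d y] at hy
    have : φ = a • e.symm y := by rw [← map_smul, hy, e.symm_apply_apply]
    rw [this, LinearMap.smul_apply, ← map_smul, hq, map_zero]
  · intro h y
    obtain ⟨ψ, hψ⟩ := InjHullLib.exists_extend hf.isInjective (a • (LinearMap.id : Q →ₗ[R] Q)) h (e.symm y)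
    refine ⟨e ψ, ?_⟩
    rw [show topMap d (a • (LinearMap.id : P →ₗ[R] P)) (e ψ) = a • e ψ from Hf_smul_id a d _, ← map_smul,
      ← e.eq_symm_apply, ← hψ]
    exact LinearMap.ext fun q => (map_smul ψ a q).symm

variable (R E) in
/-- A Cohen–Macaulay module `P` of dimension `d` with a dual `Q` of its top local cohomology. -/
structure CMPair (d : ℕ) (P Q : Type u) [AddCommGroup P] [Module R P] [AddCommGroup Q] [Module R Q] : Prop where
  dim : Module.supportDim R P = d
  vanish : ∀ i, i < d → Subsingleton (LocCoh.H (maximalIdeal R) i P)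
  dual : Nonempty ((Q →ₗ[R] E) ≃ₗ[R] LocCoh.H (maximalIdeal R) d P)

variable {d : ℕ} {P Q : Type u} [AddCommGroup P] [Module R P] [AddCommGroup Q] [Module R Q]

theorem CMPair.nontrivialP (h : CMPair R E d P Q) : Nontrivial P :=
  (Module.supportDim_ne_bot_iff_nontrivial R P).1 (by rw [h.dim]; simp)

theorem CMPair.nontrivialQ [Module.Finite R P] (h : CMPair R E d P Q) : Nontrivial Q := by
  obtain ⟨e⟩ := h.dual
  haveI := (nonvanishing d P h.dim).1
  by_contra hne
  rw [not_nontrivial_iff_subsingleton] at hne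
  exact not_subsingleton (LocCoh.H (maximalIdeal R) d P) e.symm.injective.subsingleton

theorem CMPair.quot [Module.Finite R P] (h : CMPair R E d P Q) {a : R} (ha : a ∈ maximalIdeal R) (hP : IsSMulRegular P a)
    (hf : InjHull.IsInjectiveHull f) :
    ∃ d', d = d' + 1 ∧ CMPair R E d' (QuotSMulTop a P) (QuotSMulTop a Q) ∧ IsSMulRegular Q a := by
  haveI := h.nontrivialP
  have hdim := Module.supportDim_quotSMulTop_succ_eq_supportDim hP ha
  rw [h.dim] at hdim
  haveI : Nontrivial (QuotSMulTop a P) := by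
    refine Submodule.Quotient.nontrivial_iff.2 (Ne.symm (Submodule.top_ne_pointwise_smul_of_mem_jacobson_annihilator ?_))
    exact IsLocalRing.maximalIdeal_le_jacobson _ ha
  obtain ⟨d', hd'⟩ : ∃ d' : ℕ, Module.supportDim R (QuotSMulTop a P) = d' := by
    obtain ⟨v, hv⟩ := WithBot.ne_bot_iff_exists.1 (Module.supportDim_ne_bot_of_nontrivial R (QuotSMulTop a P))
    rw [← hv] at hdim
    rcases eq_or_ne v ⊤ with rfl | hv'
    · exact absurd hdim (by exact_mod_cast (by simp : ((⊤ : ℕ∞) + 1) ≠ (d : ℕ∞)))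
    · obtain ⟨k, rfl⟩ := ENat.ne_top_iff_exists.1 hv'
      exact ⟨k, hv.symm⟩
  rw [hd'] at hdim
  obtain rfl : d = d' + 1 := by exact_mod_cast hdim.symm
  obtain ⟨e⟩ := h.dual
  have hinj : Function.Injective (a • (LinearMap.id : P →ₗ[R] P)) := hP
  let π : P →ₗ[R] QuotSMulTop a P := Submodule.mkQ _
  have hex : Function.Exact (a • (LinearMap.id : P →ₗ[R] P)) π := fun x => by
    rw [show π x = 0 ↔ x ∈ a • (⊤ : Submodule R P) from Submodule.Quotient.mk_eq_zero _,
      Submodule.mem_smul_pointwise_iff_exists]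
    exact ⟨fun ⟨y, _, hy⟩ => ⟨y, hy⟩, fun ⟨y, hy⟩ => ⟨y, trivial, hy⟩⟩
  have hsur : Function.Surjective π := Submodule.mkQ_surjective _
  have hreg : IsSMulRegular Q a := (topMap_smul_surjective_iff e hf a).1 fun y => by
    haveI : Subsingleton (LocCoh.H (maximalIdeal R) (d' + 1) (QuotSMulTop a P)) :=
      subsingleton_H_of_supportDim_lt _ _ (by rw [hd']; exact_mod_cast Nat.lt_succ_self d')
    exact (exact_Hf hinj hex hsur (d' + 1) y).1 (Subsingleton.elim _ _)
  refine ⟨d', rfl, ⟨hd', fun i hi => subsingleton_H_quot hP i (h.vanish i (by omega)) (h.vanish (i + 1) (by omega)), ?_⟩,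
    hreg⟩
  let δ := Hδ (I := maximalIdeal R) hinj hex hsur d'
  have hδinj : Function.Injective δ := (injective_iff_map_eq_zero _).2 fun y hy => by
    obtain ⟨z, rfl⟩ := ((exact_Hδ hinj hex hsur d').2 y).1 hy
    haveI := h.vanish d' (Nat.lt_succ_self d')
    rw [Subsingleton.elim z 0, map_zero]
  let ι : (QuotSMulTop a Q →ₗ[R] E) →ₗ[R] LocCoh.H (maximalIdeal R) (d' + 1) P :=
    e.toLinearMap ∘ₗ LinearMap.lcomp R E (Submodule.mkQ _)
  have hι : Function.Injective ι := e.injective.comp fun u v huv => Submodule.linearMap_qext _ huv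
  have hrange : ∀ y, y ∈ LinearMap.range δ ↔ y ∈ LinearMap.range ι := fun y => by
    rw [LinearMap.mem_range, ← Set.mem_range, ← (exact_Hδ hinj hex hsur d').1 y, Hf_smul_id]
    constructor
    · intro hy
      have hk : a • (⊤ : Submodule R Q) ≤ LinearMap.ker (e.symm y) := fun q hq => by
        obtain ⟨q, -, rfl⟩ := (Submodule.mem_smul_pointwise_iff_exists _ _ _).1 hq
        rw [LinearMap.mem_ker, map_smul, ← LinearMap.smul_apply, ← map_smul, hy, map_zero]
        rfl
      refine ⟨Submodule.liftQ _ (e.symm y) hk, ?_⟩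
      show e (Submodule.liftQ _ (e.symm y) hk ∘ₗ Submodule.mkQ _) = y
      rw [Submodule.liftQ_mkQ, e.apply_symm_apply]
    · rintro ⟨φ, rfl⟩
      show a • e (φ ∘ₗ Submodule.mkQ _) = 0
      rw [← map_smul, show a • (φ ∘ₗ Submodule.mkQ (a • ⊤ : Submodule R Q)) = 0 from LinearMap.ext fun q => by
        show a • φ (Submodule.Quotient.mk q) = 0
        rw [← map_smul, ← Submodule.Quotient.mk_smul, (Submodule.Quotient.mk_eq_zero _).2
          (Submodule.smul_mem_pointwise_smul q a ⊤ trivial), map_zero], map_zero]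
  exact ⟨(LinearEquiv.ofInjective ι hι).trans ((LinearEquiv.ofEq _ _ (Submodule.ext fun y => (hrange y).symm)).trans
    (LinearEquiv.ofInjective δ hδinj).symm)⟩

theorem CMPair.regular_of_regular [Module.Finite R P] (h : CMPair R E d P Q) {a : R} (ha : a ∈ maximalIdeal R)
    (hQ : IsSMulRegular Q a) (hf : InjHull.IsInjectiveHull f) : IsSMulRegular P a := by
  haveI := h.nontrivialP
  by_contra hP
  obtain ⟨p, hp, hap⟩ : ∃ p ∈ associatedPrimes R P, a ∈ p := by
    by_contra! hne
    refine hP ?_
    by_contra hreg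
    have : a ∈ {r : R | IsSMulRegular P r}ᶜ := hreg
    rw [← biUnion_associatedPrimes_eq_compl_regular, Set.mem_iUnion₂] at this
    obtain ⟨p, hp, hap⟩ := this
    exact hne p hp hap
  haveI := hp.isPrime
  have hge : (d : WithBot ℕ∞) ≤ ringKrullDim (R ⧸ p) :=
    CommAlgDim.depth_le_ringKrullDim_quotient hp ((hasSeqIn_iff_subsingleton_H d P).2 h.vanish)
  have hdimq : Module.supportDim R (QuotSMulTop a P) = d := by
    refine le_antisymm ((Module.supportDim_le_of_surjective _ (Submodule.mkQ_surjective _)).trans h.dim.le) (hge.trans ?_)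
    rw [Module.supportDim_eq_ringKrullDim_quotient_annihilator]
    refine ringKrullDim_le_of_surjective (Ideal.Quotient.factor ?_) (Ideal.Quotient.factor_surjective _)
    have hmem : (⟨p, inferInstance⟩ : PrimeSpectrum R) ∈ Module.support R (QuotSMulTop a P) := by
      rw [Module.support_quotSMulTop]
      refine ⟨Module.mem_support_iff_of_finite.2 (le_of_eq_of_le Submodule.annihilator_top.symm
        (IsAssociatedPrime.annihilator_le hp)), ?_⟩
      simpa using hap
    exact Module.mem_support_iff_of_finite.1 hmem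
  haveI := (nonvanishing d (QuotSMulTop a P) hdimq).1
  obtain ⟨e⟩ := h.dual
  let π : P →ₗ[R] QuotSMulTop a P := Submodule.mkQ _
  have hπ : Function.Surjective π := Submodule.mkQ_surjective _
  have hsur : Function.Surjective (topMap d π) := fun y => by
    haveI : Subsingleton (LocCoh.H (maximalIdeal R) (d + 1) (LinearMap.ker π)) :=
      subsingleton_H_of_supportDim_lt _ _ (lt_of_le_of_lt
        ((Module.supportDim_le_of_injective _ (Submodule.injective_subtype _)).trans h.dim.le)
        (by exact_mod_cast Nat.lt_succ_self d))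
    exact ((exact_Hδ (Submodule.injective_subtype _) (LinearMap.exact_subtype_ker_map π) hπ d).2 y).1
      (Subsingleton.elim _ _)
  refine not_subsingleton (LocCoh.H (maximalIdeal R) d (QuotSMulTop a P)) (subsingleton_of_forall_eq 0 fun y => ?_)
  obtain ⟨y, rfl⟩ := hsur y
  obtain ⟨z, rfl⟩ := (topMap_smul_surjective_iff e hf a).2 hQ y
  rw [← Hf_comp, show π ∘ₗ (a • (LinearMap.id : P →ₗ[R] P)) = 0 from LinearMap.ext fun x =>
    (Submodule.Quotient.mk_eq_zero _).2 (Submodule.smul_mem_pointwise_smul x a ⊤ trivial)]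
  exact Hf_zero z

/-- Regular sequences on a pair. -/
theorem CMPair.weaklyRegular_iff (hf : InjHull.IsInjectiveHull f) : ∀ (as : List R) (d : ℕ) (P Q : Type u)
    [AddCommGroup P] [Module R P] [Module.Finite R P] [AddCommGroup Q] [Module R Q],
    CMPair R E d P Q → (∀ a ∈ as, a ∈ maximalIdeal R) →
    (RingTheory.Sequence.IsWeaklyRegular P as ↔ RingTheory.Sequence.IsWeaklyRegular Q as) ∧
      (RingTheory.Sequence.IsWeaklyRegular P as → as.length ≤ d ∧
        CMPair R E (d - as.length) (P ⧸ (Ideal.ofList as • (⊤ : Submodule R P)))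
          (Q ⧸ (Ideal.ofList as • (⊤ : Submodule R Q)))) := by
  intro as
  induction as with
  | nil =>
    intro d P Q _ _ _ _ _ h _
    refine ⟨iff_of_true (RingTheory.Sequence.IsWeaklyRegular.nil R P) (RingTheory.Sequence.IsWeaklyRegular.nil R Q),
      fun _ => ⟨Nat.zero_le _, ?_⟩⟩
    have eP : (P ⧸ (Ideal.ofList ([] : List R) • (⊤ : Submodule R P))) ≃ₗ[R] P :=
      Submodule.quotEquivOfEqBot _ (by simp)
    have eQ : (Q ⧸ (Ideal.ofList ([] : List R) • (⊤ : Submodule R Q))) ≃ₗ[R] Q :=
      Submodule.quotEquivOfEqBot _ (by simp)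
    obtain ⟨e⟩ := h.dual
    exact ⟨(Module.supportDim_eq_of_equiv eP).trans h.dim,
      fun i hi => (subsingleton_H_congr eP i).2 (h.vanish i hi),
      ⟨(eQ.arrowCongr (LinearEquiv.refl R E)).trans (e.trans
        ((localCohomology (maximalIdeal R) d).mapIso eP.symm.toModuleIso).toLinearEquiv)⟩⟩
  | cons a as ih =>
    intro d P Q _ _ _ _ _ h hm
    have ha := hm a (List.mem_cons_self ..)
    rw [RingTheory.Sequence.isWeaklyRegular_cons_iff, RingTheory.Sequence.isWeaklyRegular_cons_iff]
    refine ⟨⟨fun ⟨hP, hrest⟩ => ?_, fun ⟨hQ, hrest⟩ => ?_⟩, fun ⟨hP, hrest⟩ => ?_⟩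
    · obtain ⟨d', rfl, h', hQ⟩ := h.quot ha hP hf
      exact ⟨hQ, (ih d' _ _ h' fun b hb => hm b (List.mem_cons_of_mem _ hb)).1.1 hrest⟩
    · have hP := h.regular_of_regular ha hQ hf
      obtain ⟨d', rfl, h', -⟩ := h.quot ha hP hf
      exact ⟨hP, (ih d' _ _ h' fun b hb => hm b (List.mem_cons_of_mem _ hb)).1.2 hrest⟩
    · obtain ⟨d', rfl, h', -⟩ := h.quot ha hP hf
      obtain ⟨hl, h''⟩ := (ih d' _ _ h' fun b hb => hm b (List.mem_cons_of_mem _ hb)).2 hrest
      let eP := Submodule.quotOfListConsSMulTopEquivQuotSMulTopInner P a as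
      let eQ := Submodule.quotOfListConsSMulTopEquivQuotSMulTopInner Q a as
      refine ⟨by simpa using hl, ?_⟩
      rw [show d' + 1 - (a :: as).length = d' - as.length by simp]
      obtain ⟨e⟩ := h''.dual
      exact ⟨(Module.supportDim_eq_of_equiv eP).trans h''.dim,
        fun i hi => (subsingleton_H_congr eP i).2 (h''.vanish i hi),
        ⟨(eQ.arrowCongr (LinearEquiv.refl R E)).trans (e.trans
          ((localCohomology (maximalIdeal R) (d' - as.length)).mapIso eP.symm.toModuleIso).toLinearEquiv)⟩⟩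

/-- Endomorphisms and annihilator of the dual of a cyclic pair. -/
theorem CMPair.end_eq (hf : InjHull.IsInjectiveHull f) : ∀ (d : ℕ) (P Q : Type u)
    [AddCommGroup P] [Module R P] [Module.Finite R P] [AddCommGroup Q] [Module R Q] [Module.Finite R Q],
    CMPair R E d P Q → (∃ p₀ : P, ∀ p, ∃ r : R, r • p₀ = p) →
    (∀ g : Q →ₗ[R] Q, ∃ r : R, g = r • LinearMap.id) ∧ Module.annihilator R Q ≤ Module.annihilator R P := by
  intro d
  induction d with
  | zero =>
    intro P Q _ _ _ _ _ _ h ⟨p₀, hp₀⟩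
    obtain ⟨e⟩ := h.dual
    haveI := h.nontrivialP
    have htors : LocCoh.IsPowerTorsion (maximalIdeal R) P := by
      have hs := _root_.support_of_supportDim_eq_zero (R := R) (N := P) (by exact_mod_cast h.dim)
      intro x
      have hr : maximalIdeal R ≤ (Module.annihilator R P).radical := by
        rw [Ideal.radical_eq_sInf]
        refine le_sInf fun q ⟨hq, hqp⟩ => ?_
        have : (⟨q, hqp⟩ : PrimeSpectrum R) ∈ Module.support R P := Module.mem_support_iff_of_finite.2 hq
        rw [hs, PrimeSpectrum.mem_zeroLocus] at this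
        exact this
      obtain ⟨k, hk⟩ := Ideal.exists_pow_le_of_le_radical_of_fg hr (IsNoetherian.noetherian _)
      exact ⟨k, fun c hc => Module.mem_annihilator.1 (hk hc) x⟩
    obtain ⟨e0⟩ := H0Equiv_of_torsion (maximalIdeal R) P htors
    let ι := e.trans e0
    refine ⟨fun g => ?_, fun r hr => Module.mem_annihilator.2 fun p => ?_⟩
    · obtain ⟨r, hr⟩ := hp₀ (ι ((ι.symm p₀) ∘ₗ g))
      refine ⟨r, LinearMap.ext fun q => sub_eq_zero.1 (eq_zero_of_forall hf fun φ => ?_)⟩
      obtain ⟨s, hs⟩ := hp₀ (ι φ)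
      have h1 : φ = s • ι.symm p₀ := by rw [← map_smul, hs, ι.symm_apply_apply]
      have h2 : (ι.symm p₀) ∘ₗ g = r • ι.symm p₀ := by rw [← map_smul, hr, ι.symm_apply_apply]
      have h3 : (ι.symm p₀) (g q) = r • (ι.symm p₀) q := LinearMap.congr_fun h2 q
      rw [map_sub, h1, LinearMap.smul_apply, LinearMap.smul_apply, LinearMap.smul_apply, LinearMap.id_apply, map_smul,
        h3, sub_self]
    · refine ι.symm.injective (LinearMap.ext fun q => ?_)
      rw [map_smul, LinearMap.smul_apply, ← map_smul, Module.mem_annihilator.1 hr q, map_zero, map_zero]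
      rfl
  | succ d ih =>
    intro P Q _ _ _ _ _ _ h hcyc
    obtain ⟨a, ha, hP⟩ := CommAlgDim.exists_isSMulRegular_mem
      ((subsingleton_H0_iff (maximalIdeal R) P).1 (h.vanish 0 (Nat.succ_pos d)))
    obtain ⟨d', hd, h', hQ⟩ := h.quot ha hP hf
    obtain rfl : d = d' := by omega
    obtain ⟨p₀, hp₀⟩ := hcyc
    obtain ⟨hend, hann⟩ := ih (QuotSMulTop a P) (QuotSMulTop a Q) h' ⟨Submodule.Quotient.mk p₀, fun p => by
      obtain ⟨p, rfl⟩ := Submodule.Quotient.mk_surjective _ p
      obtain ⟨r, rfl⟩ := hp₀ p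
      exact ⟨r, rfl⟩⟩
    have hPQ : Module.annihilator R P ≤ Module.annihilator R Q := fun r hr => Module.mem_annihilator.2 fun q => by
      obtain ⟨e⟩ := h.dual
      refine eq_zero_of_forall hf fun φ => ?_
      have h1 : r • e φ = 0 := by
        rw [← Hf_smul_id r (d + 1) (e φ)]
        show topMap (d + 1) (r • (LinearMap.id : P →ₗ[R] P)) (e φ) = 0
        rw [show r • (LinearMap.id : P →ₗ[R] P) = 0 from LinearMap.ext fun p => Module.mem_annihilator.1 hr p, Hf_zero]
      rw [← map_smul, LinearEquiv.map_eq_zero_iff] at h1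
      rw [map_smul, ← LinearMap.smul_apply, h1, LinearMap.zero_apply]
    refine ⟨fun g => ?_, ?_⟩
    · let S : Submodule R (Q →ₗ[R] Q) := Submodule.span R {LinearMap.id}
      have hle : (⊤ : Submodule R (Q →ₗ[R] Q)) ≤ S ⊔ maximalIdeal R • ⊤ := fun g _ => by
        have hg : (a • (⊤ : Submodule R Q)) ≤ (a • (⊤ : Submodule R Q)).comap g := fun q hq => by
          obtain ⟨q, -, rfl⟩ := (Submodule.mem_smul_pointwise_iff_exists _ _ _).1 hq
          show g (a • q) ∈ a • (⊤ : Submodule R Q)
          rw [map_smul]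
          exact Submodule.smul_mem_pointwise_smul _ a ⊤ trivial
        obtain ⟨r, hr⟩ := hend (Submodule.mapQ _ _ g hg)
        have hmem : ∀ q, ∃ q', a • q' = g q - r • q := fun q => by
          have h1 := LinearMap.congr_fun hr (Submodule.Quotient.mk q)
          rw [Submodule.mapQ_apply, LinearMap.smul_apply, LinearMap.id_apply, ← Submodule.Quotient.mk_smul,
            Submodule.Quotient.eq, Submodule.mem_smul_pointwise_iff_exists] at h1
          obtain ⟨q', -, hq'⟩ := h1
          exact ⟨q', hq'⟩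
        choose g' hg' using hmem
        let G : Q →ₗ[R] Q :=
          { toFun := g'
            map_add' := fun x y => hQ (by
              show a • g' (x + y) = a • (g' x + g' y)
              rw [smul_add, hg', hg', hg', map_add, smul_add]; abel)
            map_smul' := fun c x => hQ (by
              show a • g' (c • x) = a • (c • g' x)
              rw [smul_comm a c, hg', hg', map_smul, smul_sub, smul_comm c r]) }
        rw [show g = r • LinearMap.id + a • G from LinearMap.ext fun q => by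
          show g q = r • q + a • g' q
          rw [hg', add_sub_cancel]]
        exact Submodule.add_mem_sup (Submodule.smul_mem _ _ (Submodule.subset_span rfl))
          (Submodule.smul_mem_smul ha trivial)
      have htop := Submodule.le_of_le_smul_of_le_jacobson_bot (IsNoetherian.noetherian _)
        (by rw [IsLocalRing.jacobson_eq_maximalIdeal _ bot_ne_top]) hle
      obtain ⟨r, hr⟩ := Submodule.mem_span_singleton.1 (htop (trivial : g ∈ (⊤ : Submodule R (Q →ₗ[R] Q))))
      exact ⟨r, hr.symm⟩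
    · let J := Module.annihilator R Q
      let T : Submodule R P := Submodule.map (LinearMap.toSpanSingleton R P p₀) J
      have hT : T ≤ maximalIdeal R • T := by
        rintro _ ⟨r, hr, rfl⟩
        have h1 : r ∈ Module.annihilator R (QuotSMulTop a P) := hann (Module.mem_annihilator.2 fun q => by
          obtain ⟨q, rfl⟩ := Submodule.Quotient.mk_surjective _ q
          rw [← Submodule.Quotient.mk_smul, Module.mem_annihilator.1 hr q, Submodule.Quotient.mk_zero])
        have h2 := Module.mem_annihilator.1 h1 (Submodule.Quotient.mk p₀)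
        rw [← Submodule.Quotient.mk_smul, Submodule.Quotient.mk_eq_zero, Submodule.mem_smul_pointwise_iff_exists] at h2
        obtain ⟨p, -, hp⟩ := h2
        obtain ⟨s, rfl⟩ := hp₀ p
        have h3 : r - a * s ∈ Module.annihilator R P := Module.mem_annihilator.2 fun x => by
          obtain ⟨t, rfl⟩ := hp₀ x
          rw [smul_comm, sub_smul, mul_smul, hp, sub_self, smul_zero]
        have h4 : s ∈ J := Module.mem_annihilator.2 fun q => hQ.right_eq_zero_of_smul (by
          have h5 := Module.mem_annihilator.1 (hPQ h3) q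
          rw [sub_smul, Module.mem_annihilator.1 hr q, zero_sub, neg_eq_zero, mul_smul] at h5
          exact h5)
        show r • p₀ ∈ _
        rw [← hp]
        exact Submodule.smul_mem_smul ha ⟨s, h4, rfl⟩
      have hT0 : T = ⊥ := Submodule.eq_bot_of_le_smul_of_le_jacobson_bot _ _ (IsNoetherian.noetherian _) hT
        (by rw [IsLocalRing.jacobson_eq_maximalIdeal _ bot_ne_top])
      intro r hr
      refine Module.mem_annihilator.2 fun x => ?_
      obtain ⟨t, rfl⟩ := hp₀ x
      have : r • p₀ ∈ T := ⟨r, hr, rfl⟩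
      rw [hT0, Submodule.mem_bot] at this
      rw [smul_comm, this, smul_zero]

end CanonModLib
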