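import Groth.Agent.CanonModLib.Ext
import Groth.Agent.J2Lib.Criterion
import Groth.Agent.CatLib.Flat

/-!
# Canonical modules of arbitrary Noetherian local rings
-/

set_option autoImplicit false
set_option linter.style.haveILetI false
set_option linter.unusedSectionVars false
set_option maxHeartbeats 400000

universe u

open CategoryTheory IsLocalRing LocCohLib
open scoped TensorProduct Pointwise

noncomputable section

namespace CanonModLib

variable {R : Type u} [CommRing R] [IsLocalRing R] [IsNoetherianRing R]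

section Dim

theorem exists_dim_quotient {n : ℕ} (hn : ringKrullDim R = n) (q : Ideal R) [q.IsPrime] :
    ∃ e : ℕ, e ≤ n ∧ ringKrullDim (R ⧸ q) = e := by
  haveI := Ideal.Quotient.nontrivial_iff.2 (Ideal.IsPrime.ne_top (I := q) inferInstance)
  haveI : IsLocalRing (R ⧸ q) := IsLocalRing.of_surjective' _ Ideal.Quotient.mk_surjective
  obtain ⟨e, he⟩ := CommAlgDim.exists_ringKrullDim_eq (R := R ⧸ q)
  refine ⟨e, ?_, he⟩
  have h : ringKrullDim (R ⧸ q) ≤ ringKrullDim R :=
    ringKrullDim_le_of_surjective (Ideal.Quotient.mk q) Ideal.Quotient.mk_surjective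
  rw [he, hn] at h
  exact_mod_cast h

/-- A chain `l` of primes below `p` has length at most `dim R/head - dim R/p`. -/
theorem length_add_dim_le {p q : Ideal R} [p.IsPrime] [q.IsPrime] (l : LTSeries (PrimeSpectrum R))
    (hq : q ≤ l.head.asIdeal) (hp : l.last.asIdeal ≤ p) {e : ℕ} (he : ringKrullDim (R ⧸ p) = e) :
    ((e + l.length : ℕ) : WithBot ℕ∞) ≤ ringKrullDim (R ⧸ q) := by
  obtain ⟨t, ht, htl⟩ := CatLib.length_le_dim_quotient l q hq
  have hqp : q ≤ p := hq.trans ((show l.head.asIdeal ≤ l.last.asIdeal from l.head_le_last).trans hp)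
  let P' := p.map (Ideal.Quotient.mk q)
  haveI : P'.IsPrime := Ideal.map_isPrime_of_surjective Ideal.Quotient.mk_surjective (by rw [Ideal.mk_ker]; exact hqp)
  have h := J2Lib.ringKrullDim_quotient_add_height_le P'
  rw [CatLib.ringKrullDim_quotient_quotient_map hqp, he] at h
  refine le_trans ?_ h
  have hle : (l.length : ℕ∞) ≤ P'.height := by
    rw [← ht, PrimeSpectrum.height_eq_orderHeight (⟨P', inferInstance⟩ : PrimeSpectrum (R ⧸ q))]
    refine (Order.length_le_height (p := t) le_rfl).trans (Order.height_mono ?_)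
    show t.last.asIdeal ≤ P'
    have h2 : (CatLib.quotEmb q t.last).asIdeal ≤ p := by rw [htl]; exact hp
    intro x hx
    obtain ⟨x, rfl⟩ := Ideal.Quotient.mk_surjective x
    exact Ideal.mem_map_of_mem _ (h2 hx)
  calc ((e + l.length : ℕ) : WithBot ℕ∞) = (e : WithBot ℕ∞) + (((l.length : ℕ∞)) : WithBot ℕ∞) := by push_cast; rfl
    _ ≤ _ := add_le_add le_rfl (WithBot.coe_le_coe.2 hle)

theorem dim_lt_of_lt {p q : Ideal R} [p.IsPrime] [q.IsPrime] (h : q < p) {d e : ℕ}
    (hd : ringKrullDim (R ⧸ q) = d) (he : ringKrullDim (R ⧸ p) = e) : e < d := by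
  let l : LTSeries (PrimeSpectrum R) :=
    ((RelSeries.singleton _ (⟨q, inferInstance⟩ : PrimeSpectrum R)).snoc ⟨p, inferInstance⟩ h)
  have h1 := length_add_dim_le (q := q) (p := p) l (le_of_eq rfl) (le_of_eq (congrArg PrimeSpectrum.asIdeal (RelSeries.last_snoc _ _ _))) he
  rw [hd, show l.length = 1 from rfl] at h1
  have : e + 1 ≤ d := by exact_mod_cast h1
  omega

theorem eq_of_le_of_dim_eq {p q : Ideal R} [p.IsPrime] [q.IsPrime] (h : q ≤ p) {d : ℕ}
    (hd : ringKrullDim (R ⧸ q) = d) (he : ringKrullDim (R ⧸ p) = d) : q = p :=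
  h.eq_or_lt.elim id fun h => absurd (dim_lt_of_lt h hd he) (lt_irrefl d)

theorem exists_associatedPrime_le {K : Type u} [AddCommGroup K] [Module R K] [Module.Finite R K]
    {p : PrimeSpectrum R} (hp : p ∈ Module.support R K) : ∃ q ∈ associatedPrimes R K, q ≤ p.asIdeal := by
  obtain ⟨q, hq, hqp⟩ := Ideal.exists_minimalPrimes_le (Module.mem_support_iff_of_finite.1 hp)
  exact ⟨q, Module.associatedPrimes.minimalPrimes_annihilator_subset_associatedPrimes R K hq, hqp⟩

theorem supportDim_lt_of_forall {n : ℕ} (hn : ringKrullDim R = n) (M : Type u) [AddCommGroup M] [Module R M]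
    [Module.Finite R M]
    (h : ∀ q : PrimeSpectrum R, q ∈ Module.support R M → ringKrullDim (R ⧸ q.asIdeal) < n) :
    Module.supportDim R M < n := by
  rcases Nat.eq_zero_or_pos n with rfl | hpos
  · rcases subsingleton_or_nontrivial M with hM | hM
    · rw [Module.supportDim_eq_bot_of_subsingleton]; exact WithBot.bot_lt_coe _
    · obtain ⟨q, hq⟩ := Module.nonempty_support_iff (R := R) (M := M) |>.2 hM
      obtain ⟨e, -, he⟩ := exists_dim_quotient hn q.asIdeal
      have h1 := h q hq
      rw [he] at h1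
      exact absurd (show e < 0 by exact_mod_cast h1) (Nat.not_lt_zero e)
  · refine lt_of_le_of_lt (iSup_le fun l => ?_) (show ((n - 1 : ℕ) : WithBot ℕ∞) < n by
      exact_mod_cast Nat.sub_lt hpos one_pos)
    obtain ⟨e, -, he⟩ := exists_dim_quotient hn l.last.1.asIdeal
    obtain ⟨d, -, hd⟩ := exists_dim_quotient hn l.head.1.asIdeal
    have h1 := length_add_dim_le (q := l.head.1.asIdeal) (p := l.last.1.asIdeal) (l.map Subtype.val fun _ _ h => h)
      le_rfl le_rfl he
    rw [hd] at h1
    have h2 := h l.head.1 l.head.2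
    rw [hd] at h2
    have h1' : e + l.length ≤ d := by exact_mod_cast h1
    have h2' : d < n := by exact_mod_cast h2
    refine WithBot.coe_le_coe.2 (ENat.natCast_le_natCast.2 (by omega))

theorem supportDim_quotient (I : Ideal R) : Module.supportDim R (R ⧸ I) = ringKrullDim (R ⧸ I) :=
  Module.supportDim_quotient_eq_ringKrullDim I

end Dim

variable {n : ℕ} {E : Type u} [AddCommGroup E] [Module R E]
  {f : ResidueField R →ₗ[R] E} (hf : InjHull.IsInjectiveHull f) {K : Type u} [AddCommGroup K] [Module R K]
  [Module.Finite R K] (eK : (K →ₗ[R] E) ≃ₗ[R] LocCoh.H (maximalIdeal R) n R) (hn : ringKrullDim R = n)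

include hf eK hn in
theorem subsingleton_hom_of_supportDim_lt (M : Type u) [AddCommGroup M] [Module R M] [Module.Finite R M]
    (h : Module.supportDim R M < n) : Subsingleton (M →ₗ[R] K) := by
  haveI := subsingleton_H_of_supportDim_lt (I := maximalIdeal R) n M h
  haveI := (topDual hn.le hf.isInjective eK M).symm.injective.subsingleton
  exact subsingleton_of_dual hf

include hf eK hn in
theorem nontrivial_hom_of_supportDim_eq (M : Type u) [AddCommGroup M] [Module R M] [Module.Finite R M]
    (h : Module.supportDim R M = n) : Nontrivial (M →ₗ[R] K) := by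
  haveI := (nonvanishing n M h).1
  by_contra hne
  rw [not_nontrivial_iff_subsingleton] at hne
  haveI : Subsingleton ((M →ₗ[R] K) →ₗ[R] E) :=
    ⟨fun a b => LinearMap.ext fun x => by rw [Subsingleton.elim x 0, map_zero, map_zero]⟩
  exact not_subsingleton (LocCoh.H (maximalIdeal R) n M) (topDual hn.le hf.isInjective eK M).injective.subsingleton

include hf eK hn in
theorem nontrivial_canon : Nontrivial K := by
  haveI := nontrivial_hom_of_supportDim_eq hf eK hn R (by rw [Module.supportDim_self_eq_ringKrullDim, hn])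
  exact (LinearMap.ringLmapEquivSelf R R K).symm.toEquiv.nontrivial

include hf eK hn in
theorem associatedPrimes_canon : associatedPrimes R K = {p : Ideal R | p.IsPrime ∧ ringKrullDim (R ⧸ p) = n} := by
  ext q
  constructor
  · intro hq
    obtain ⟨hqp, x, hx⟩ := isAssociatedPrime_iff.1 hq
    obtain ⟨e, he, hed⟩ := exists_dim_quotient hn q
    refine ⟨hqp, ?_⟩
    by_contra hne
    haveI := subsingleton_hom_of_supportDim_lt hf eK hn (R ⧸ q) (by
      rw [supportDim_quotient]
      exact lt_of_le_of_ne (hed ▸ by exact_mod_cast he) hne)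
    have hle : q ≤ LinearMap.ker (LinearMap.toSpanSingleton R K x) := fun r hr => by
      rw [hx, Submodule.mem_colon_singleton, Submodule.mem_bot] at hr
      exact hr
    have h0 : (1 : R) • x = 0 := by
      have := LinearMap.congr_fun (Subsingleton.elim (q.liftQ _ hle) 0) (Submodule.Quotient.mk 1)
      exact this
    refine hqp.ne_top (Ideal.eq_top_iff_one q |>.2 ?_)
    rw [hx, Submodule.mem_colon_singleton, Submodule.mem_bot]
    exact h0
  · rintro ⟨hqp, hq⟩
    haveI := hqp
    haveI := nontrivial_hom_of_supportDim_eq hf eK hn (R ⧸ q) (by rw [supportDim_quotient, hq])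
    obtain ⟨φ, hφ⟩ := exists_ne (0 : (R ⧸ q) →ₗ[R] K)
    let x := φ (Submodule.Quotient.mk 1)
    have hx : x ≠ 0 := fun h => hφ (Submodule.linearMap_qext _ (LinearMap.ext_ring h))
    have hk : ∀ r ∈ q, r • x = 0 := fun r hr => by
      rw [← map_smul, ← Submodule.Quotient.mk_smul, (Submodule.Quotient.mk_eq_zero q).2 (by simpa using hr), map_zero]
    obtain ⟨q', hq', hq'x⟩ := exists_le_isAssociatedPrime_of_isNoetherianRing R x hx
    obtain ⟨hq'p, y, hy⟩ := isAssociatedPrime_iff.1 hq'
    haveI := hq'p
    have hle : q ≤ q' := fun r hr => hq'x (by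
      rw [Submodule.mem_colon_singleton, Submodule.mem_bot]; exact hk r hr)
    obtain ⟨e, he, hed⟩ := exists_dim_quotient hn q'
    have hen : e = n := by
      by_contra hne
      haveI := subsingleton_hom_of_supportDim_lt hf eK hn (R ⧸ q') (by
        rw [supportDim_quotient, hed]; exact_mod_cast lt_of_le_of_ne he hne)
      have hle : q' ≤ LinearMap.ker (LinearMap.toSpanSingleton R K y) := fun r hr => by
        rw [hy, Submodule.mem_colon_singleton, Submodule.mem_bot] at hr
        exact hr
      refine hq'p.ne_top (Ideal.eq_top_iff_one q' |>.2 ?_)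
      rw [hy, Submodule.mem_colon_singleton, Submodule.mem_bot]
      exact LinearMap.congr_fun (Subsingleton.elim (q'.liftQ _ hle) 0) (Submodule.Quotient.mk 1)
    rw [eq_of_le_of_dim_eq hle hq (by rw [hed, hen])]
    exact hq'

include hf eK hn in
theorem isSMulRegular_canon {a : R} (h : ringKrullDim (R ⧸ Ideal.span {a}) < n) : IsSMulRegular K a := by
  by_contra hne
  have h1 : a ∈ ⋃ s ∈ associatedPrimes R K, (s : Set R) := by
    rw [biUnion_associatedPrimes_eq_compl_regular]; exact hne
  obtain ⟨q, hq, haq⟩ := Set.mem_iUnion₂.1 h1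
  rw [associatedPrimes_canon hf eK hn] at hq
  refine absurd h (not_lt.2 ?_)
  rw [← hq.2]
  exact ringKrullDim_le_of_surjective (Ideal.Quotient.factor (Ideal.span_le.2 (Set.singleton_subset_iff.2 haq)))
    (Ideal.Quotient.factor_surjective _)

include hf eK hn in
/-- A pair cutting the dimension twice is regular on `K`. -/
theorem isSMulRegular_quot_canon {a b : R} {m : ℕ} (hm : n = m + 1)
    (hab : ringKrullDim (R ⧸ Ideal.span {a, b}) < m) : IsSMulRegular (QuotSMulTop a K) b := by
  refine isSMulRegular_iff_right_eq_zero_of_smul.2 fun x hx => ?_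
  obtain ⟨x, rfl⟩ := Submodule.Quotient.mk_surjective _ x
  rw [← Submodule.Quotient.mk_smul, Submodule.Quotient.mk_eq_zero, Submodule.mem_smul_pointwise_iff_exists] at hx
  obtain ⟨y, -, hy⟩ := hx
  -- `a • y = b • x`
  let M := (R × R) ⧸ Submodule.span R {((b, -a) : R × R)}
  let I : Ideal R := Ideal.span {a, b}
  let g₀ : R × R →ₗ[R] K := (LinearMap.toSpanSingleton R K x).coprod (LinearMap.toSpanSingleton R K y)
  let π₀ : R × R →ₗ[R] I := LinearMap.codRestrict I
    ((LinearMap.toSpanSingleton R R a).coprod (LinearMap.toSpanSingleton R R b)) fun z => by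
      show z.1 * a + z.2 * b ∈ I
      exact I.add_mem (I.mul_mem_left _ (Ideal.subset_span (by simp))) (I.mul_mem_left _ (Ideal.subset_span (by simp)))
  have hg : Submodule.span R {((b, -a) : R × R)} ≤ LinearMap.ker g₀ := Submodule.span_le.2 (by
    rintro _ rfl
    show b • x + (-a) • y = 0
    rw [neg_smul, hy, add_neg_cancel])
  have hπ : Submodule.span R {((b, -a) : R × R)} ≤ LinearMap.ker π₀ := Submodule.span_le.2 (by
    rintro _ rfl
    refine Subtype.ext ?_
    show b * a + (-a) * b = 0
    ring)
  let g : M →ₗ[R] K := Submodule.liftQ _ g₀ hg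
  let π : M →ₗ[R] I := Submodule.liftQ _ π₀ hπ
  have hπs : Function.Surjective π := fun z => by
    obtain ⟨z, hz⟩ := z
    obtain ⟨r, s, h⟩ := Ideal.mem_span_pair.1 hz
    exact ⟨Submodule.Quotient.mk (r, s), Subtype.ext h⟩
  have hT : Module.supportDim R (LinearMap.ker π) < n := by
    have hk : I ≤ Module.annihilator R (LinearMap.ker π) := Ideal.span_le.2 fun c hc => Module.mem_annihilator.2
      fun t => by
        obtain ⟨t, ht⟩ := t
        obtain ⟨⟨r, s⟩, rfl⟩ := Submodule.Quotient.mk_surjective _ t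
        have h0 : r * a + s * b = 0 := congrArg Subtype.val ht
        refine Subtype.ext ((Submodule.Quotient.mk_eq_zero _).2 (Submodule.mem_span_singleton.2 ?_))
        rcases hc with rfl | hc
        · exact ⟨-s, Prod.ext (show -s * b = c * r by linear_combination -h0) (show -s * -c = c * s by ring)⟩
        · rw [Set.mem_singleton_iff] at hc
          subst hc
          exact ⟨r, Prod.ext (show r * c = c * r by ring) (show r * -a = c * s by linear_combination -h0)⟩
    haveI : Module.Finite R (LinearMap.ker π) := inferInstance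
    rw [Module.supportDim_eq_ringKrullDim_quotient_annihilator]
    refine lt_of_le_of_lt (ringKrullDim_le_of_surjective (Ideal.Quotient.factor hk) (Ideal.Quotient.factor_surjective _))
      (hab.trans ?_)
    rw [hm]
    exact_mod_cast Nat.lt_succ_self m
  let ι : I →ₗ[R] R := I.subtype
  have hQ : Module.supportDim R (R ⧸ I) < m := by rw [supportDim_quotient]; exact hab
  let ψ : M →ₗ[R] R := ι ∘ₗ π
  have hinj : ∀ z, topMap n ψ z = 0 → z = 0 := fun z hz => by
    rw [show topMap n ψ z = topMap n ι (topMap n π z) from Hf_comp n ι π z] at hz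
    have h1 : topMap n π z = 0 := by
      subst hm
      haveI := subsingleton_H_of_supportDim_lt (I := maximalIdeal R) m (R ⧸ I) hQ
      obtain ⟨w, hw⟩ := ((exact_Hδ (I.injective_subtype) (LinearMap.exact_subtype_mkQ I) (Submodule.mkQ_surjective I)
        m).1 _).1 hz
      rw [← hw, Subsingleton.elim w 0, map_zero]
    haveI := subsingleton_H_of_supportDim_lt (I := maximalIdeal R) n (LinearMap.ker π) hT
    obtain ⟨w, hw⟩ := ((exact_Hf (Submodule.injective_subtype _) (LinearMap.exact_subtype_ker_map π) hπs n) z).1 h1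
    rw [← hw, Subsingleton.elim w 0, map_zero]
  obtain ⟨e⟩ := kerEquiv hn.le hf.isInjective eK ψ
  haveI : Subsingleton (LinearMap.ker (topMap n ψ)) := subsingleton_of_forall_eq 0 fun z => Subtype.ext (hinj z.1 z.2)
  haveI := e.symm.injective.subsingleton
  haveI := subsingleton_of_dual (Q := (M →ₗ[R] K) ⧸ LinearMap.range (LinearMap.lcomp R K ψ)) hf
  obtain ⟨χ, hχ⟩ := (Submodule.Quotient.mk_eq_zero (LinearMap.range (LinearMap.lcomp R K ψ))).1
    (Subsingleton.elim (Submodule.Quotient.mk g) 0)
  refine (Submodule.Quotient.mk_eq_zero _).2 ((Submodule.mem_smul_pointwise_iff_exists _ _ _).2 ⟨χ 1, trivial, ?_⟩)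
  have h1 := LinearMap.congr_fun hχ (Submodule.Quotient.mk ((1 : R), (0 : R)))
  have h2 : g (Submodule.Quotient.mk ((1 : R), (0 : R))) = x := by
    show (1 : R) • x + (0 : R) • y = x
    simp
  have h3 : χ (ψ (Submodule.Quotient.mk ((1 : R), (0 : R)))) = x := h1.trans h2
  rw [← h3, ← map_smul]
  refine congrArg χ ?_
  show a * 1 = 1 * a + 0 * b
  ring

include hf eK hn in
theorem le_annihilator_of_supportDim_lt {u : Ideal R} (hu : Module.supportDim R u < n) : u ≤ Module.annihilator R K := by
  haveI := subsingleton_hom_of_supportDim_lt hf eK hn u hu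
  intro b hb
  refine Module.mem_annihilator.2 fun x => ?_
  exact LinearMap.congr_fun (Subsingleton.elim ((LinearMap.toSpanSingleton R K x) ∘ₗ u.subtype) 0) ⟨b, hb⟩

end CanonModLib
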