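import Groth.Agent.CanonModLib.Ext
import Groth.Agent.ProjLib.Auslander
import Mathlib.Algebra.Homology.DerivedCategory.Ext.EnoughProjectives
import Mathlib.CategoryTheory.Abelian.Injective.Dimension

/-!
# The injective dimension of a canonical module
-/

set_option autoImplicit false
set_option linter.style.haveILetI false
set_option linter.unusedSectionVars false
set_option maxHeartbeats 400000

universe u

open CategoryTheory IsLocalRing LocCohLib
open scoped TensorProduct

noncomputable section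

namespace CanonModLib

variable {R : Type u} [CommRing R]

section Shifting

variable (Q F : ℕ → ModuleCat.{u} R) (f : ∀ j, Q (j + 1) →ₗ[R] F j) (g : ∀ j, F j →ₗ[R] Q j)
  (hf : ∀ j, Function.Injective (f j)) (he : ∀ j, Function.Exact (f j) (g j))
  (hg : ∀ j, Function.Surjective (g j)) (hF : ∀ j, Projective (F j)) (Y : ModuleCat.{u} R)

include hf he hg hF in
theorem ext_eq_zero_of_surjective : ∀ (q j : ℕ),
    (∀ h : Q (j + q + 1) →ₗ[R] Y, ∃ y : F (j + q) →ₗ[R] Y, y ∘ₗ f (j + q) = h) →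
    ∀ x : Abelian.Ext (Q j) Y (q + 1), x = 0
  | 0, j, hy, x => by
    have hS := shortExact_of (hf j) (he j) (hg j)
    haveI : Projective (ShortComplex.moduleCatMk (f j) (g j) (he j).linearMap_comp_eq_zero).X₂ := hF j
    obtain ⟨x₁, rfl⟩ := Abelian.Ext.contravariant_sequence_exact₃ hS Y x
      (Abelian.Ext.eq_zero_of_projective _) (show 1 + 0 = 0 + 1 by rfl)
    obtain ⟨φ, rfl⟩ := (Abelian.Ext.mk₀_bijective _ _).2 x₁
    obtain ⟨y, hy⟩ := hy φ.hom
    let y' : (ShortComplex.moduleCatMk (f j) (g j) (he j).linearMap_comp_eq_zero).X₂ ⟶ Y := ModuleCat.ofHom y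
    have hφ : φ = (ShortComplex.moduleCatMk (f j) (g j) (he j).linearMap_comp_eq_zero).f ≫ y' := ModuleCat.hom_ext hy.symm
    exact (congrArg (fun t => hS.extClass.comp t (show 1 + 0 = 0 + 1 by rfl))
      ((congrArg Abelian.Ext.mk₀ hφ).trans (Abelian.Ext.mk₀_comp_mk₀ _ _).symm)).trans (hS.extClass_comp_assoc _)
  | q + 1, j, hy, x => by
    have hS := shortExact_of (hf j) (he j) (hg j)
    haveI : Projective (ShortComplex.moduleCatMk (f j) (g j) (he j).linearMap_comp_eq_zero).X₂ := hF j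
    obtain ⟨x₁, rfl⟩ := Abelian.Ext.contravariant_sequence_exact₃ hS Y x
      (Abelian.Ext.eq_zero_of_projective _) (show 1 + (q + 1) = q + 1 + 1 by omega)
    rw [show x₁ = 0 from ext_eq_zero_of_surjective q (j + 1)
      (by rw [show j + 1 + q = j + (q + 1) by omega]; exact hy) x₁, Abelian.Ext.comp_zero]
    rfl

include hf he hg hF in
theorem ext_one_eq_zero : ∀ (q j : ℕ), (∀ x : Abelian.Ext (Q j) Y (q + 1), x = 0) →
    ∀ h : Q (j + q + 1) →ₗ[R] Y, ∃ y : F (j + q) →ₗ[R] Y, y ∘ₗ f (j + q) = h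
  | 0, j, h0, h => by
    have hS := shortExact_of (hf j) (he j) (hg j)
    obtain ⟨x₂, hx₂⟩ := Abelian.Ext.contravariant_sequence_exact₁ hS Y (Abelian.Ext.mk₀ (ModuleCat.ofHom h)) (n₁ := 1)
      rfl (h0 _)
    obtain ⟨y, rfl⟩ := (Abelian.Ext.mk₀_bijective _ _).2 x₂
    rw [Abelian.Ext.mk₀_comp_mk₀] at hx₂
    exact ⟨y.hom, congrArg ModuleCat.Hom.hom ((Abelian.Ext.mk₀_bijective _ _).1 hx₂)⟩
  | q + 1, j, h0, h => by
    have hS := shortExact_of (hf j) (he j) (hg j)
    haveI : Projective (ShortComplex.moduleCatMk (f j) (g j) (he j).linearMap_comp_eq_zero).X₂ := hF j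
    have h1 : ∀ x : Abelian.Ext (Q (j + 1)) Y (q + 1), x = 0 := fun x => by
      obtain ⟨x₂, rfl⟩ := Abelian.Ext.contravariant_sequence_exact₁ hS Y x (n₁ := q + 1 + 1) (by omega) (h0 _)
      rw [Abelian.Ext.eq_zero_of_projective x₂, Abelian.Ext.comp_zero]
      rfl
    have h2 := ext_one_eq_zero q (j + 1) h1
    rw [show j + 1 + q = j + (q + 1) by omega] at h2
    exact h2 h

end Shifting

variable [IsLocalRing R] [IsNoetherianRing R] {n : ℕ} {E : Type u} [AddCommGroup E] [Module R E]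
  {f₀ : ResidueField R →ₗ[R] E} {K : Type u} [AddCommGroup K] [Module R K]

/-- Kernels beyond the dimension vanish. -/
theorem subsingleton_ker_topMap (Q F : ℕ → ModuleCat.{u} R) (f : ∀ j, Q (j + 1) →ₗ[R] F j) (g : ∀ j, F j →ₗ[R] Q j)
    (hf : ∀ j, Function.Injective (f j)) (he : ∀ j, Function.Exact (f j) (g j)) (hg : ∀ j, Function.Surjective (g j))
    (hv : ∀ j q, q < n → Subsingleton (LocCoh.H (maximalIdeal R) q (F j))) (i : ℕ) (hi : n ≤ i) :
    Subsingleton (LinearMap.ker (topMap n (f i))) := by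
  have inj0 : ∀ j, Function.Injective (topMap 0 (f j)) := fun j =>
    (ModuleCat.mono_iff_injective _).1 ((lcDelta (maximalIdeal R)).mono₀ (shortExact_of (hf j) (he j) (hg j)))
  rcases Nat.eq_zero_or_pos n with rfl | hn0
  · exact subsingleton_of_forall_eq 0 fun y => Subtype.ext (inj0 i (y.2.trans (map_zero _).symm))
  have key : ∀ q, q < n → ∀ j, q < j → Subsingleton (LocCoh.H (maximalIdeal R) q (Q j)) := by
    intro q
    induction q with
    | zero =>
      intro _ j hj
      obtain ⟨j, rfl⟩ : ∃ j', j = j' + 1 := ⟨j - 1, by omega⟩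
      haveI := hv j 0 hn0
      exact (inj0 j).subsingleton
    | succ q ih =>
      intro hq j hj
      obtain ⟨j, rfl⟩ : ∃ j', j = j' + 1 := ⟨j - 1, by omega⟩
      haveI := hv j (q + 1) hq
      haveI := ih (by omega) j (by omega)
      refine subsingleton_of_forall_eq 0 fun y => ?_
      obtain ⟨z, rfl⟩ := ((exact_Hδ (hf j) (he j) (hg j) q).1 y).1 (Subsingleton.elim _ _)
      rw [Subsingleton.elim z 0, map_zero]
  obtain ⟨m, rfl⟩ : ∃ m, n = m + 1 := ⟨n - 1, by omega⟩
  haveI := key m (Nat.lt_succ_self m) i (by omega)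
  refine subsingleton_of_forall_eq 0 fun y => Subtype.ext ?_
  obtain ⟨z, hz⟩ := ((exact_Hδ (hf i) (he i) (hg i) m).1 y.1).1 y.2
  rw [← hz, Subsingleton.elim z 0, map_zero]
  rfl

variable [Module.Finite R K] (hf₀ : InjHull.IsInjectiveHull f₀) (hn : ringKrullDim R ≤ n)
  (eK : (K →ₗ[R] E) ≃ₗ[R] LocCoh.H (maximalIdeal R) n R)
  (hvan : ∀ q, q < n → Subsingleton (LocCoh.H (maximalIdeal R) q R))

include hf₀ hn eK hvan in
theorem hasInjectiveDimensionLT_succ : HasInjectiveDimensionLT (ModuleCat.of R K) (n + 1) := by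
  refine ProjLib.hasInjectiveDimensionLT_of_cyclic n _ fun I => ?_
  obtain ⟨P, Q, f, g, hQ, hf, he, hg, hP, hQf, -⟩ := exists_chain (R := R) (R ⧸ I)
  have hv : ∀ j q, q < n → Subsingleton (LocCoh.H (maximalIdeal R) q (P.complex.X j)) := fun j q hq => by
    haveI := (hP j).1
    haveI := (hP j).2
    exact subsingleton_H_free q (hvan q hq) (P.complex.X j)
  have hsur : ∀ h : Q (n + 1) →ₗ[R] K, ∃ y : P.complex.X n →ₗ[R] K, y ∘ₗ f n = h := by
    haveI := (hP n).1
    haveI := hQf (n + 1)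
    obtain ⟨e⟩ := kerEquiv hn hf₀.isInjective eK (f n)
    haveI := subsingleton_ker_topMap Q P.complex.X f g hf he hg hv n le_rfl
    haveI := e.symm.injective.subsingleton
    haveI := subsingleton_of_dual (Q := (Q (n + 1) →ₗ[R] K) ⧸ LinearMap.range (LinearMap.lcomp R K (f n))) hf₀
    intro h
    exact (Submodule.Quotient.mk_eq_zero (LinearMap.range (LinearMap.lcomp R K (f n)))).1 (Subsingleton.elim _ _)
  rw [← hQ]
  exact subsingleton_of_forall_eq 0 (ext_eq_zero_of_surjective Q P.complex.X f g hf he hg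
    (fun j => P.projective j) (ModuleCat.of R K) n 0 (by rw [Nat.zero_add]; exact hsur))

include hf₀ hn eK hvan in
theorem not_hasInjectiveDimensionLT [Nontrivial K] : ¬ HasInjectiveDimensionLT (ModuleCat.of R K) n := by
  intro h
  rcases Nat.eq_zero_or_pos n with rfl | hn0
  · exact not_subsingleton K (moduleCat_zero_of_isZero ((hasInjectiveDimensionLT_zero_iff_isZero _).1 h))
  obtain ⟨m, rfl⟩ : ∃ m, n = m + 1 := ⟨n - 1, by omega⟩
  haveI : Module.Finite R (ResidueField R) := inferInstance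
  obtain ⟨P, Q, f, g, hQ, hf, he, hg, hP, hQf, -⟩ := exists_chain (R := R) (ResidueField R)
  have hv : ∀ j q, q < m + 1 → Subsingleton (LocCoh.H (maximalIdeal R) q (P.complex.X j)) := fun j q hq => by
    haveI := (hP j).1
    haveI := (hP j).2
    exact subsingleton_H_free q (hvan q hq) (P.complex.X j)
  have hsur := ext_one_eq_zero Q P.complex.X f g hf he hg (fun j => P.projective j) (ModuleCat.of R K) m 0
    fun x => x.eq_zero_of_hasInjectiveDimensionLT (m + 1) le_rfl
  rw [Nat.zero_add] at hsur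
  obtain ⟨e⟩ := H_shift (n := m + 1) m Q P.complex.X f g hf he hg hv le_rfl
  rw [Nat.sub_self, hQ] at e
  haveI := (hP m).1
  haveI := hQf (m + 1)
  obtain ⟨e'⟩ := kerEquiv hn hf₀.isInjective eK (f m)
  haveI : Subsingleton ((Q (m + 1) →ₗ[R] K) ⧸ LinearMap.range (LinearMap.lcomp R K (f m))) :=
    subsingleton_of_forall_eq 0 fun z => by
      obtain ⟨z, rfl⟩ := Submodule.Quotient.mk_surjective _ z
      exact (Submodule.Quotient.mk_eq_zero _).2 (hsur z)
  haveI : Subsingleton (LinearMap.ker (topMap (m + 1) (f m))) := e'.injective.subsingleton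
  haveI hH : Subsingleton (LocCoh.H (maximalIdeal R) 0 (ResidueField R)) := e.injective.subsingleton
  obtain ⟨e0⟩ := H0Equiv_of_torsion (maximalIdeal R) (ResidueField R) fun x => ⟨1, fun c hc => by
    rw [pow_one] at hc
    obtain ⟨a, rfl⟩ := IsLocalRing.residue_surjective x
    rw [Algebra.smul_def, IsLocalRing.ResidueField.algebraMap_eq, ← map_mul, IsLocalRing.residue_eq_zero_iff]
    exact Ideal.mul_mem_right a _ hc⟩
  exact not_subsingleton (ResidueField R) e0.symm.injective.subsingleton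

end CanonModLib
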