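import Groth.Agent.CanonModLib.Additive
import Groth.Agent.LocCohLib.Finiteness
import Groth.Agent.InjHullLib.Local

/-!
# Top local cohomology as `Hom(Hom(M, K), E)`
-/

set_option autoImplicit false
set_option linter.style.haveILetI false
set_option linter.unusedSectionVars false
set_option maxHeartbeats 400000

universe u

open CategoryTheory IsLocalRing LocCohLib
open scoped TensorProduct

noncomputable section

namespace CanonModLib

variable {R : Type u} [CommRing R]

/-- A natural map which is bijective on free modules is bijective on finite modules. -/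
theorem bijective_of_presentation {A₁ A₀ A B₁ B₀ B : Type u} [AddCommGroup A₁] [Module R A₁] [AddCommGroup A₀]
    [Module R A₀] [AddCommGroup A] [Module R A] [AddCommGroup B₁] [Module R B₁] [AddCommGroup B₀] [Module R B₀]
    [AddCommGroup B] [Module R B] (a₁ : A₁ →ₗ[R] A₀) (a₀ : A₀ →ₗ[R] A) (b₁ : B₁ →ₗ[R] B₀) (b₀ : B₀ →ₗ[R] B)
    (θ₁ : A₁ →ₗ[R] B₁) (θ₀ : A₀ →ₗ[R] B₀) (θ : A →ₗ[R] B)
    (ha : Function.Surjective a₀) (ha' : Function.Exact a₁ a₀) (hb : Function.Surjective b₀)
    (hb' : Function.Exact b₁ b₀) (h₁ : ∀ x, b₁ (θ₁ x) = θ₀ (a₁ x)) (h₀ : ∀ x, b₀ (θ₀ x) = θ (a₀ x))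
    (hθ₁ : Function.Surjective θ₁) (hθ₀ : Function.Bijective θ₀) : Function.Bijective θ := by
  refine ⟨(injective_iff_map_eq_zero _).2 fun x hx => ?_, fun y => ?_⟩
  · obtain ⟨x, rfl⟩ := ha x
    rw [← h₀] at hx
    obtain ⟨z, hz⟩ := (hb' _).1 hx
    obtain ⟨w, rfl⟩ := hθ₁ z
    rw [h₁] at hz
    rw [← hθ₀.1 hz]
    exact ha'.apply_apply_eq_zero w
  · obtain ⟨z, rfl⟩ := hb y
    obtain ⟨w, rfl⟩ := hθ₀.2 z
    exact ⟨a₀ w, (h₀ w).symm⟩

/-- A finite presentation. -/
theorem exists_presentation [IsNoetherianRing R] (M : Type u) [AddCommGroup M] [Module R M] [Module.Finite R M] :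
    ∃ (a b : ℕ) (ρ : (Fin b → R) →ₗ[R] (Fin a → R)) (π : (Fin a → R) →ₗ[R] M),
      Function.Surjective π ∧ Function.Exact ρ π := by
  obtain ⟨a, π, hπ⟩ := Module.Finite.exists_fin' R M
  obtain ⟨b, ρ, hρ⟩ := Module.Finite.exists_fin' R (LinearMap.ker π)
  refine ⟨a, b, (LinearMap.ker π).subtype ∘ₗ ρ, π, hπ, fun x => ⟨fun hx => ?_, ?_⟩⟩
  · obtain ⟨z, hz⟩ := hρ ⟨x, hx⟩
    exact ⟨z, by rw [LinearMap.comp_apply, hz]; rfl⟩
  · rintro ⟨z, rfl⟩
    exact (ρ z).2

variable [IsLocalRing R] [IsNoetherianRing R] {n : ℕ} {E : Type u} [AddCommGroup E] [Module R E]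
  {K : Type u} [AddCommGroup K] [Module R K] {M N : Type u} [AddCommGroup M] [Module R M] [AddCommGroup N] [Module R N]

/-- `H^n(-)` of a map. -/
abbrev topMap (n : ℕ) (π : M →ₗ[R] N) : LocCoh.H (maximalIdeal R) n M →ₗ[R] LocCoh.H (maximalIdeal R) n N :=
  Hf (maximalIdeal R) n π

theorem Hf_add (f g : M →ₗ[R] N) (y : LocCoh.H (maximalIdeal R) n M) :
    topMap n (f + g) y = topMap n f y + topMap n g y := by
  haveI := additive_localCohomology (maximalIdeal R) n
  show ((localCohomology (maximalIdeal R) n).map (ModuleCat.ofHom (f + g))).hom y = _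
  rw [show ModuleCat.ofHom (f + g) = ModuleCat.ofHom f + ModuleCat.ofHom g from rfl, Functor.map_add]
  rfl

theorem Hf_smul (r : R) (f : M →ₗ[R] N) (y : LocCoh.H (maximalIdeal R) n M) :
    topMap n (r • f) y = r • topMap n f y :=
  (congrArg (fun φ => topMap n φ y) (show r • f = (r • LinearMap.id : N →ₗ[R] N) ∘ₗ f from rfl)).trans
    ((Hf_comp n _ _ y).trans (Hf_smul_id r n _))

theorem Hf_id (y : LocCoh.H (maximalIdeal R) n M) : topMap n (LinearMap.id : M →ₗ[R] M) y = y :=
  (congrArg (fun φ => topMap n φ y) (one_smul R (LinearMap.id : M →ₗ[R] M)).symm).trans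
    ((Hf_smul_id 1 n y).trans (one_smul R y))

theorem Hf_zero (y : LocCoh.H (maximalIdeal R) n M) : topMap n (0 : M →ₗ[R] N) y = 0 := by
  rw [← zero_smul R (0 : M →ₗ[R] N), Hf_smul, zero_smul]

theorem Hf_sum {J : Type*} [Fintype J] (f : J → M →ₗ[R] N) (y : LocCoh.H (maximalIdeal R) n M) :
    topMap n (∑ j, f j) y = ∑ j, topMap n (f j) y := by
  classical
  induction (Finset.univ : Finset J) using Finset.induction with
  | empty => rw [Finset.sum_empty, Finset.sum_empty, Hf_zero]
  | insert a s ha ih => rw [Finset.sum_insert ha, Finset.sum_insert ha, Hf_add, ih]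

variable (n) in
/-- `x ⊗ y ↦ H^n(R → M, 1 ↦ x)(y)`. -/
def tensH (M : Type u) [AddCommGroup M] [Module R M] :
    M ⊗[R] LocCoh.H (maximalIdeal R) n R →ₗ[R] LocCoh.H (maximalIdeal R) n M :=
  TensorProduct.lift <| LinearMap.mk₂ R (fun x y => topMap n (LinearMap.toSpanSingleton R M x) y)
    (fun x x' y => by
      rw [show LinearMap.toSpanSingleton R M (x + x') = LinearMap.toSpanSingleton R M x + LinearMap.toSpanSingleton R M x'
        from LinearMap.ext_ring (by simp), Hf_add])
    (fun r x y => by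
      rw [show LinearMap.toSpanSingleton R M (r • x) = r • LinearMap.toSpanSingleton R M x from LinearMap.ext_ring (by simp),
        Hf_smul])
    (fun x y y' => map_add _ _ _) (fun r x y => map_smul _ _ _)

theorem tensH_natural (π : M →ₗ[R] N) (z : M ⊗[R] LocCoh.H (maximalIdeal R) n R) :
    tensH n N (π.rTensor _ z) = topMap n π (tensH n M z) := by
  induction z using TensorProduct.induction_on with
  | zero => simp
  | add a b ha hb => rw [map_add, map_add, map_add, map_add, ha, hb]
  | tmul x y =>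
    show topMap n (LinearMap.toSpanSingleton R N (π x)) y = topMap n π (topMap n (LinearMap.toSpanSingleton R M x) y)
    rw [show LinearMap.toSpanSingleton R N (π x) = π ∘ₗ LinearMap.toSpanSingleton R M x from
      LinearMap.ext_ring (by simp), Hf_comp]

theorem exists_sum_tmul {X : Type u} [AddCommGroup X] [Module R X] (r : ℕ) (z : (Fin r → R) ⊗[R] X) :
    ∃ v : Fin r → X, z = ∑ i, (Pi.single i (1 : R) : Fin r → R) ⊗ₜ[R] v i := by
  induction z using TensorProduct.induction_on with
  | zero => exact ⟨0, by simp⟩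
  | add a b ha hb =>
    obtain ⟨v, rfl⟩ := ha
    obtain ⟨w, rfl⟩ := hb
    exact ⟨v + w, by simp [TensorProduct.tmul_add, Finset.sum_add_distrib]⟩
  | tmul c x =>
    refine ⟨fun i => c i • x, ?_⟩
    conv_lhs => rw [pi_eq_sum_univ' c, TensorProduct.sum_tmul]
    refine Finset.sum_congr rfl fun i _ => ?_
    rw [TensorProduct.smul_tmul]

theorem tensH_bijective_pi (r : ℕ) : Function.Bijective (tensH (R := R) n (Fin r → R)) := by
  classical
  have hp : ∀ (i j : Fin r), (LinearMap.proj j : (Fin r → R) →ₗ[R] R) ∘ₗ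
      LinearMap.toSpanSingleton R (Fin r → R) (Pi.single i 1) = if i = j then LinearMap.id else 0 := fun i j => by
    refine LinearMap.ext_ring ?_
    split_ifs with h
    · subst h; simp
    · simp [Ne.symm h]
  refine ⟨(injective_iff_map_eq_zero _).2 fun z hz => ?_, fun y => ?_⟩
  · obtain ⟨v, rfl⟩ := exists_sum_tmul r z
    suffices hv : ∀ j, v j = 0 by simp [hv]
    intro j
    have h1 := congrArg (topMap n (LinearMap.proj j : (Fin r → R) →ₗ[R] R)) hz
    rw [map_zero, map_sum, map_sum, Finset.sum_eq_single j] at h1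
    · rw [show tensH n _ ((Pi.single j (1 : R) : Fin r → R) ⊗ₜ[R] v j) =
        topMap n (LinearMap.toSpanSingleton R (Fin r → R) (Pi.single j 1)) (v j) from rfl, ← Hf_comp, hp, if_pos rfl,
        Hf_id] at h1
      exact h1
    · intro i _ hij
      rw [show tensH n _ ((Pi.single i (1 : R) : Fin r → R) ⊗ₜ[R] v i) =
        topMap n (LinearMap.toSpanSingleton R (Fin r → R) (Pi.single i 1)) (v i) from rfl, ← Hf_comp, hp, if_neg hij,
        Hf_zero]
    · exact fun h => absurd (Finset.mem_univ j) h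
  · refine ⟨∑ i, (Pi.single i (1 : R) : Fin r → R) ⊗ₜ[R] topMap n (LinearMap.proj i) y, ?_⟩
    rw [map_sum]
    show ∑ i, topMap n (LinearMap.toSpanSingleton R (Fin r → R) (Pi.single i 1)) (topMap n (LinearMap.proj i) y) = y
    simp_rw [← Hf_comp]
    rw [← Hf_sum]
    conv_rhs => rw [← Hf_id y]
    refine congrArg (fun φ => topMap n φ y) (LinearMap.ext fun c => ?_)
    rw [LinearMap.sum_apply]
    conv_rhs => rw [LinearMap.id_apply, pi_eq_sum_univ' c]
    rfl

variable (E K) in
/-- `x ⊗ φ ↦ (g ↦ φ (g x))`. -/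
def tensDual (M : Type u) [AddCommGroup M] [Module R M] : M ⊗[R] (K →ₗ[R] E) →ₗ[R] ((M →ₗ[R] K) →ₗ[R] E) :=
  TensorProduct.lift <| LinearMap.mk₂ R (fun x φ => φ ∘ₗ LinearMap.applyₗ x)
    (fun x x' φ => by rw [map_add, LinearMap.comp_add]) (fun r x φ => by rw [map_smul, LinearMap.comp_smul])
    (fun x φ φ' => LinearMap.add_comp _ _ _) (fun r x φ => LinearMap.smul_comp _ _ _)

theorem tensDual_natural (π : M →ₗ[R] N) (z : M ⊗[R] (K →ₗ[R] E)) (g : N →ₗ[R] K) :
    tensDual E K N (π.rTensor _ z) g = tensDual E K M z (g ∘ₗ π) := by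
  induction z using TensorProduct.induction_on with
  | zero => simp
  | add a b ha hb => rw [map_add, map_add, map_add, LinearMap.add_apply, LinearMap.add_apply, ha, hb]
  | tmul x y => rfl

theorem tensDual_bijective_pi (r : ℕ) : Function.Bijective (tensDual (R := R) E K (Fin r → R)) := by
  classical
  refine ⟨(injective_iff_map_eq_zero _).2 fun z hz => ?_, fun χ => ?_⟩
  · obtain ⟨v, rfl⟩ := exists_sum_tmul r z
    suffices hv : ∀ j, v j = 0 by simp [hv]
    refine fun j => LinearMap.ext fun k => ?_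
    have h1 := LinearMap.congr_fun hz (LinearMap.toSpanSingleton R K k ∘ₗ LinearMap.proj j)
    rw [map_sum, LinearMap.sum_apply, LinearMap.zero_apply, Finset.sum_eq_single j] at h1
    · change v j ((Pi.single j (1 : R) : Fin r → R) j • k) = 0 at h1
      rwa [Pi.single_eq_same, one_smul] at h1
    · intro i _ hij
      show v i ((Pi.single i (1 : R) : Fin r → R) j • k) = 0
      rw [Pi.single_eq_of_ne hij.symm, zero_smul, map_zero]
    · exact fun h => absurd (Finset.mem_univ j) h
  · let ψ : Fin r → K →ₗ[R] E := fun i => χ ∘ₗ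
      ((LinearMap.lcomp R K (LinearMap.proj i : (Fin r → R) →ₗ[R] R)) ∘ₗ (LinearMap.ringLmapEquivSelf R R K).symm.toLinearMap)
    refine ⟨∑ i, (Pi.single i (1 : R) : Fin r → R) ⊗ₜ[R] ψ i, LinearMap.ext fun g => ?_⟩
    have hg : g = ∑ i, ((LinearMap.ringLmapEquivSelf R R K).symm (g (Pi.single i 1))) ∘ₗ LinearMap.proj i :=
      LinearMap.pi_ext' fun i => LinearMap.ext_ring (by simp [Pi.single_apply, LinearMap.sum_apply])
    rw [map_sum, LinearMap.sum_apply]
    conv_rhs => rw [hg, map_sum]
    exact Finset.sum_congr rfl fun i _ => rfl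

variable (hn : ringKrullDim R ≤ n) (hE : Module.Injective R E)

include hn in
theorem topMap_surjective (π : M →ₗ[R] N) (hπ : Function.Surjective π) : Function.Surjective (topMap n π) := by
  intro y
  haveI : Subsingleton (LocCoh.H (maximalIdeal R) (n + 1) (LinearMap.ker π)) :=
    subsingleton_H_of_supportDim_lt (n + 1) _
      (lt_of_le_of_lt ((Module.supportDim_le_ringKrullDim R _).trans hn) (by exact_mod_cast Nat.lt_succ_self n))
  exact ((exact_Hδ (Submodule.injective_subtype _) (LinearMap.exact_subtype_ker_map π) hπ n).2 y).1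
    (Subsingleton.elim _ _)

include hn in
theorem topMap_exact {L : Type u} [AddCommGroup L] [Module R L] (ρ : L →ₗ[R] M) (π : M →ₗ[R] N)
    (hπ : Function.Surjective π) (he : Function.Exact ρ π) : Function.Exact (topMap n ρ) (topMap n π) := by
  intro y
  rw [exact_Hf (Submodule.injective_subtype _) (LinearMap.exact_subtype_ker_map π) hπ n y]
  let ρ' : L →ₗ[R] LinearMap.ker π := ρ.codRestrict _ fun x => he.apply_apply_eq_zero x
  have hρ' : Function.Surjective ρ' := fun z => by
    obtain ⟨x, hx⟩ := (he z.1).1 z.2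
    exact ⟨x, Subtype.ext hx⟩
  constructor
  · rintro ⟨z, rfl⟩
    obtain ⟨x, rfl⟩ := topMap_surjective hn ρ' hρ' z
    exact ⟨x, Hf_comp n (LinearMap.ker π).subtype ρ' x⟩
  · rintro ⟨x, rfl⟩
    exact ⟨topMap n ρ' x, (Hf_comp n (LinearMap.ker π).subtype ρ' x).symm⟩

include hn in
theorem tensH_bijective (M : Type u) [AddCommGroup M] [Module R M] [Module.Finite R M] :
    Function.Bijective (tensH (R := R) n M) := by
  obtain ⟨a, b, ρ, π, hπ, he⟩ := exists_presentation (R := R) M
  exact bijective_of_presentation (ρ.rTensor _) (π.rTensor _) (topMap n ρ) (topMap n π)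
    (tensH (R := R) n _) (tensH (R := R) n _) (tensH (R := R) n M) (LinearMap.rTensor_surjective _ hπ) (rTensor_exact _ he hπ)
    (topMap_surjective hn π hπ) (topMap_exact hn ρ π hπ he) (fun z => (tensH_natural ρ z).symm)
    (fun z => (tensH_natural π z).symm) (tensH_bijective_pi b).2 (tensH_bijective_pi a)

include hE in
theorem tensDual_bijective (M : Type u) [AddCommGroup M] [Module R M] [Module.Finite R M] :
    Function.Bijective (tensDual (R := R) E K M) := by
  obtain ⟨a, b, ρ, π, hπ, he⟩ := exists_presentation (R := R) M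
  let D : ∀ {X Y : Type u} [AddCommGroup X] [Module R X] [AddCommGroup Y] [Module R Y],
      (X →ₗ[R] Y) → (((X →ₗ[R] K) →ₗ[R] E) →ₗ[R] ((Y →ₗ[R] K) →ₗ[R] E)) :=
    fun f => LinearMap.lcomp R E (LinearMap.lcomp R K f)
  refine bijective_of_presentation (ρ.rTensor _) (π.rTensor _) (D ρ) (D π)
    (tensDual (R := R) E K _) (tensDual (R := R) E K _) (tensDual (R := R) E K M) (LinearMap.rTensor_surjective _ hπ) (rTensor_exact _ he hπ)
    ?_ ?_ (fun z => LinearMap.ext fun g => (tensDual_natural ρ z g).symm)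
    (fun z => LinearMap.ext fun g => (tensDual_natural π z g).symm) (tensDual_bijective_pi b).2 (tensDual_bijective_pi a)
  · exact fun χ => InjHullLib.exists_extend hE _ (fun u v h => (LinearMap.cancel_right hπ).1 h) χ
  · intro χ
    constructor
    · intro hχ
      let S := LinearMap.lcomp R K ρ
      have hker : LinearMap.ker S ≤ LinearMap.ker χ := fun g hg => by
        have hk : LinearMap.ker π ≤ LinearMap.ker g := fun x hx => by
          obtain ⟨z, rfl⟩ := (he x).1 hx
          exact LinearMap.congr_fun hg z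
        have hg' : g = (LinearMap.ker π).liftQ g hk ∘ₗ (LinearMap.quotKerEquivOfSurjective π hπ).symm.toLinearMap ∘ₗ π := by
          refine LinearMap.ext fun x => ?_
          show g x = (LinearMap.ker π).liftQ g hk ((LinearMap.quotKerEquivOfSurjective π hπ).symm (π x))
          rw [(LinearEquiv.symm_apply_eq _).2 (LinearMap.quotKerEquivOfSurjective_apply_mk π hπ x).symm]
          rfl
        rw [LinearMap.mem_ker, hg']
        exact LinearMap.congr_fun hχ
          ((LinearMap.ker π).liftQ g hk ∘ₗ (LinearMap.quotKerEquivOfSurjective π hπ).symm.toLinearMap)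
      obtain ⟨ψ, hψ⟩ := InjHullLib.exists_extend hE ((LinearMap.ker S).liftQ S le_rfl)
        (LinearMap.ker_eq_bot.1 (Submodule.ker_liftQ_eq_bot _ _ _ le_rfl)) ((LinearMap.ker S).liftQ χ hker)
      exact ⟨ψ, LinearMap.ext fun g => LinearMap.congr_fun hψ (Submodule.Quotient.mk g)⟩
    · rintro ⟨ψ, rfl⟩
      refine LinearMap.ext fun g => ?_
      show ψ (LinearMap.lcomp R K ρ (LinearMap.lcomp R K π g)) = 0
      rw [show LinearMap.lcomp R K ρ (LinearMap.lcomp R K π g) = 0 from
        LinearMap.ext fun z => by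
          show g (π (ρ z)) = 0
          rw [he.apply_apply_eq_zero, map_zero], map_zero]

variable (eK : (K →ₗ[R] E) ≃ₗ[R] LocCoh.H (maximalIdeal R) n R)

include hn hE in
/-- `H^n(M) ≅ Hom(Hom(M, K), E)`. -/
def topDual (M : Type u) [AddCommGroup M] [Module R M] [Module.Finite R M] :
    LocCoh.H (maximalIdeal R) n M ≃ₗ[R] ((M →ₗ[R] K) →ₗ[R] E) :=
  (LinearEquiv.ofBijective _ (tensH_bijective hn M)).symm.trans
    ((TensorProduct.congr (LinearEquiv.refl R M) eK.symm).trans (LinearEquiv.ofBijective _ (tensDual_bijective hE M)))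

theorem topDual_natural [Module.Finite R M] [Module.Finite R N] (π : M →ₗ[R] N)
    (y : LocCoh.H (maximalIdeal R) n M) (g : N →ₗ[R] K) :
    topDual hn hE eK N (topMap n π y) g = topDual hn hE eK M y (g ∘ₗ π) := by
  let tM := LinearEquiv.ofBijective _ (tensH_bijective (n := n) hn M)
  let tN := LinearEquiv.ofBijective _ (tensH_bijective (n := n) hn N)
  obtain ⟨z, rfl⟩ := tM.surjective y
  show tensDual E K N (TensorProduct.congr (LinearEquiv.refl R N) eK.symm (tN.symm (topMap n π (tensH n M z)))) g =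
    tensDual E K M (TensorProduct.congr (LinearEquiv.refl R M) eK.symm (tM.symm (tM z))) (g ∘ₗ π)
  rw [← tensH_natural, show tN.symm (tensH n N (π.rTensor _ z)) = π.rTensor _ z from tN.symm_apply_apply _,
    tM.symm_apply_apply, ← tensDual_natural]
  refine congrArg (fun w => tensDual E K N w g) ?_
  induction z using TensorProduct.induction_on with
  | zero => simp
  | add a b ha hb => rw [map_add, map_add, map_add, map_add, ha, hb]
  | tmul x h => rfl

end CanonModLib
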